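import Cfsg.Agent.Leech.CentOneCo

/-!
# Centralisers of elements of odd order in the model

An element of odd order has one lift of that order, so its centraliser is the image of that of the lift.
-/

set_option autoImplicit false

open Cfsg
open Cfsg.Agent.Leech (zneg)
open Cfsg.Agent.Leech.CentOne (toCo toCo_eq_iff toCo_one_iff)

namespace Cfsg.Agent.CoOneUniq.Local

theorem zneg_pow_odd {n : ℕ} (hn : Odd n) : zneg ^ n = 1 → False := by
  intro h
  obtain ⟨k, rfl⟩ := hn
  rw [pow_succ, pow_mul, Leech.zneg_sq, one_pow, one_mul] at h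
  exact Leech.zneg_ne_one h

/-- The image has the same odd order. -/
theorem orderOf_toCo {v : ↥Co0} (hv : Odd (orderOf v)) : orderOf (toCo v) = orderOf v := by
  refine Nat.dvd_antisymm (orderOf_map_dvd toCo v) (orderOf_dvd_of_pow_eq_one ?_)
  have h1 : toCo (v ^ orderOf (toCo v)) = 1 := by rw [map_pow, pow_orderOf_eq_one]
  rcases toCo_one_iff.1 h1 with h | h
  · exact h
  · refine (zneg_pow_odd hv ?_).elim
    rw [← h, ← pow_mul, mul_comm, pow_mul, pow_orderOf_eq_one, one_pow]

/-- The centraliser of the image is the image of the centraliser. -/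
theorem centralizer_toCo {v : ↥Co0} (hv : Odd (orderOf v)) :
    Subgroup.centralizer ({toCo v} : Set Spor.Co1) =
      (Subgroup.centralizer ({v} : Set ↥Co0)).map toCo := by
  refine le_antisymm (fun x hx => ?_) ?_
  · obtain ⟨g, rfl⟩ := QuotientGroup.mk'_surjective _ x
    refine ⟨g, Subgroup.mem_centralizer_singleton_iff.2 ?_, rfl⟩
    have h := Subgroup.mem_centralizer_singleton_iff.1 hx
    change toCo g * toCo v = toCo v * toCo g at h
    rw [← map_mul, ← map_mul] at h
    rcases toCo_eq_iff.1 h with e | e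
    · exact e.symm
    · exfalso
      refine zneg_pow_odd hv ?_
      have hc : g⁻¹ * v * g = v * zneg := by
        rw [mul_assoc, e, ← mul_assoc, ← mul_assoc, inv_mul_cancel, one_mul]
      have h1 : (g⁻¹ * v * g) ^ orderOf v = (v * zneg) ^ orderOf v := by rw [hc]
      rw [(show Commute v zneg from Leech.zneg_comm v).mul_pow, pow_orderOf_eq_one, one_mul] at h1
      rw [← h1]
      conv_lhs => rw [show g⁻¹ * v * g = g⁻¹ * v * g⁻¹⁻¹ by rw [inv_inv], conj_pow, pow_orderOf_eq_one,
        mul_one, mul_inv_cancel]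
  · rintro _ ⟨g, hg, rfl⟩
    rw [Subgroup.mem_centralizer_singleton_iff, ← map_mul, ← map_mul,
      Subgroup.mem_centralizer_singleton_iff.1 hg]

/-- Half the order upstairs bounds the order downstairs. -/
theorem card_centralizer_toCo {v : ↥Co0} (hv : Odd (orderOf v)) {m : ℕ}
    (h : Nat.card ↥(Subgroup.centralizer ({v} : Set ↥Co0)) ≤ 2 * m) :
    Nat.card ↥(Subgroup.centralizer ({toCo v} : Set Spor.Co1)) ≤ m := by
  have := Leech.finite_co0
  rw [centralizer_toCo hv]
  set C := Subgroup.centralizer ({v} : Set ↥Co0)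
  set ψ := toCo.comp C.subtype
  have hr : C.map toCo = ψ.range := by
    rw [MonoidHom.range_comp, Subgroup.range_subtype]
  have hk : 2 ≤ Nat.card ↥ψ.ker := by
    have hz : zneg ∈ C := Subgroup.mem_centralizer_singleton_iff.2 (Leech.zneg_comm v).symm
    refine Finite.one_lt_card_iff_nontrivial.2 ⟨⟨1, ⟨⟨zneg, hz⟩, ?_⟩, fun e => ?_⟩⟩
    · exact toCo_one_iff.2 (Or.inr rfl)
    · exact Leech.zneg_ne_one (congrArg Subtype.val (congrArg Subtype.val e)).symm
  have hmul : Nat.card ↥ψ.range * Nat.card ↥ψ.ker = Nat.card ↥C := by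
    rw [← Subgroup.index_ker, mul_comm, Subgroup.card_mul_index]
  rw [hr]
  by_contra hlt
  have := Nat.mul_le_mul (Nat.lt_of_not_le hlt) hk
  omega

end Cfsg.Agent.CoOneUniq.Local
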