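import Mathlib

/-!
# Recognising the centraliser and the normaliser of a small cyclic subgroup

An upper bound on the order and explicit commuting pieces determine both groups.
-/

set_option autoImplicit false

namespace Cfsg.Agent.CoOneUniq.Local

variable {G : Type*} [Group G] [Finite G]

/-- A nontrivial homomorphism of a simple group is injective. -/
theorem injective_of_simple {A : Type*} [Group A] [IsSimpleGroup A] (ψ : A →* G) {a : A}
    (ha : ψ a ≠ 1) : Function.Injective ψ := by
  rw [← MonoidHom.ker_eq_bot_iff]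
  rcases ψ.normal_ker.eq_bot_or_eq_top with h | h
  · exact h
  · exact absurd (MonoidHom.mem_ker.1 (h ▸ Subgroup.mem_top a)) ha

/-- The powers indexed by residues. -/
def wp {n : ℕ} (w : G) (a : ZMod n) : G := w ^ a.val

omit [Finite G] in
theorem wp_add {n : ℕ} [NeZero n] {w : G} (hw : w ^ n = 1) (a b : ZMod n) :
    wp w (a + b) = wp w a * wp w b := by
  rw [wp, ZMod.val_add, ← pow_eq_pow_mod _ hw, pow_add]
  rfl

omit [Finite G] in
theorem wp_one {n : ℕ} [Fact (1 < n)] (w : G) : wp w (1 : ZMod n) = w := by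
  rw [wp, ZMod.val_one, pow_one]

omit [Finite G] in
theorem wp_zero {n : ℕ} (w : G) : wp w (0 : ZMod n) = 1 := by
  rw [wp, ZMod.val_zero, pow_zero]

/-- A cyclic group times a centre-free group, found in a centraliser of bounded order. -/
theorem exists_centralizer_equiv {A : Type*} [Group A] (hA : Subgroup.center A = ⊥) {p : ℕ}
    [hp : Fact p.Prime] {v : G} (hv : orderOf v = p) (ψ : A →* G) (hψ : Function.Injective ψ)
    (hc : ∀ a, v * ψ a = ψ a * v)
    (hcard : Nat.card ↥(Subgroup.centralizer ({v} : Set G)) ≤ p * Nat.card A) :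
    ∃ V : Subgroup G, Nat.card V = p ∧
      Nonempty (↥(Subgroup.centralizer (V : Set G)) ≃* Multiplicative (ZMod p) × A) := by
  refine ⟨Subgroup.zpowers v, by rw [Nat.card_zpowers, hv], ?_⟩
  have hVc : Subgroup.centralizer (Subgroup.zpowers v : Set G) = Subgroup.centralizer {v} := by
    rw [Subgroup.zpowers_eq_closure, Subgroup.centralizer_closure]
  rw [hVc]
  have hvp : v ^ p = 1 := hv ▸ pow_orderOf_eq_one v
  have hmem : ∀ x : Multiplicative (ZMod p) × A,
      wp v x.1.toAdd * ψ x.2 ∈ Subgroup.centralizer ({v} : Set G) := fun x => by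
    rw [Subgroup.mem_centralizer_singleton_iff]
    exact (((Commute.refl v).pow_right _).mul_right (hc x.2)).eq.symm
  let Φ : Multiplicative (ZMod p) × A →* ↥(Subgroup.centralizer ({v} : Set G)) :=
    MonoidHom.mk' (fun x => ⟨wp v x.1.toAdd * ψ x.2, hmem x⟩) fun x y => Subtype.ext (by
      show wp v (x.1.toAdd + y.1.toAdd) * ψ (x.2 * y.2) = _
      rw [wp_add hvp, map_mul]
      have := ((show Commute v (ψ x.2) from hc x.2).pow_left y.1.toAdd.val).eq
      simp only [wp, Subgroup.coe_mul, mul_assoc] at this ⊢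
      rw [← mul_assoc (v ^ y.1.toAdd.val) (ψ x.2), this, mul_assoc])
  have hinj : Function.Injective Φ := by
    rw [injective_iff_map_eq_one]
    rintro ⟨a, b⟩ h
    have h' : wp v a.toAdd * ψ b = 1 := congrArg Subtype.val h
    have hbc : b ∈ Subgroup.center A := by
      refine Subgroup.mem_center_iff.2 fun c => hψ ?_
      have h1 : Commute (wp v a.toAdd) (ψ c) := (show Commute v (ψ c) from hc c).pow_left _
      rw [map_mul, map_mul, eq_inv_of_mul_eq_one_right h']
      exact h1.inv_left.eq.symm
    rw [hA, Subgroup.mem_bot] at hbc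
    subst hbc
    rw [map_one, mul_one, wp] at h'
    have : a.toAdd = 0 := by
      rw [← ZMod.val_eq_zero]
      have hd := orderOf_dvd_of_pow_eq_one h'
      rw [hv] at hd
      exact Nat.eq_zero_of_dvd_of_lt hd (ZMod.val_lt _)
    exact Prod.ext this rfl
  have : Finite A := Finite.of_injective ψ hψ
  have hb : Function.Bijective Φ := by
    refine (Nat.bijective_iff_injective_and_card _).2 ⟨hinj, ?_⟩
    refine le_antisymm (Nat.card_le_card_of_injective _ hinj) ?_
    rwa [Nat.card_prod, show Nat.card (Multiplicative (ZMod p)) = p from Nat.card_zmod p]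
  exact ⟨(MulEquiv.ofBijective Φ hb).symm⟩

/-- The image of the first letter as a residue. -/
def zf (σ : Equiv.Perm (Fin 3)) : ZMod 3 := σ 0

/-- The three letters moved with the sign. -/
theorem perm3_mul : ∀ σ τ : Equiv.Perm (Fin 3),
    zf (σ * τ) = zf σ + (if Equiv.Perm.sign σ = 1 then zf τ else -zf τ) := by
  decide

theorem perm3_sign_mul : ∀ σ τ : Equiv.Perm (Fin 3),
    (if Equiv.Perm.sign (σ * τ) = 1 then 0 else 1 : ZMod 2) =
      (if Equiv.Perm.sign σ = 1 then 0 else 1) + (if Equiv.Perm.sign τ = 1 then 0 else 1) := by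
  decide

/-- A symmetric group of degree three times a centre-free group, found in a normaliser. -/
theorem exists_normalizer_equiv {A : Type*} [Group A] (hA : Subgroup.center A = ⊥) {w s : G}
    (hw : orderOf w = 3) (hs : s * s = 1) (hsw : s * w * s = w⁻¹) (ψ : A →* G)
    (hψ : Function.Injective ψ) (hcw : ∀ a, w * ψ a = ψ a * w) (hcs : ∀ a, s * ψ a = ψ a * s)
    (hcard : Nat.card ↥(Subgroup.centralizer ({w} : Set G)) ≤ 3 * Nat.card A) :
    ∃ W : Subgroup G, Nat.card W = 3 ∧
      Nonempty (↥(Subgroup.normalizer (W : Set G)) ≃* Equiv.Perm (Fin 3) × A) := by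
  classical
  refine ⟨Subgroup.zpowers w, by rw [Nat.card_zpowers, hw], ?_⟩
  set N := Subgroup.normalizer (Subgroup.zpowers w : Set G)
  have hw3 : w ^ 3 = 1 := hw ▸ pow_orderOf_eq_one w
  have hs2 : s ^ 2 = 1 := by rw [sq, hs]
  have hsi : s⁻¹ = s := inv_eq_of_mul_eq_one_right hs
  have hsN : s ∈ N := by
    rw [Subgroup.mem_normalizer_iff_map_conj_eq, MonoidHom.map_zpowers]
    show Subgroup.zpowers (s * w * s⁻¹) = _
    rw [hsi, hsw, Subgroup.zpowers_inv]
  have hwN : w ∈ N := Subgroup.le_normalizer (Subgroup.mem_zpowers w)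
  have hψN : ∀ a, ψ a ∈ N := fun a => by
    rw [Subgroup.mem_normalizer_iff_map_conj_eq, MonoidHom.map_zpowers]
    show Subgroup.zpowers (ψ a * w * (ψ a)⁻¹) = _
    rw [← hcw a, mul_inv_cancel_right]
  have hsp : ∀ c : ZMod 3, s * wp w c = wp w (-c) * s := fun c => by
    have h1 : SemiconjBy s w w⁻¹ := by
      show s * w = w⁻¹ * s
      rw [← hsw, mul_assoc, hs, mul_one]
    have h2 := (h1.pow_right c.val).eq
    rw [inv_pow] at h2
    have h3 : wp w (-c) = (wp w c)⁻¹ := eq_inv_of_mul_eq_one_left (by
      rw [← wp_add hw3, neg_add_cancel, wp_zero])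
    rw [h3]
    exact h2
  let t : Equiv.Perm (Fin 3) → G := fun σ =>
    wp w (zf σ) * wp s (if Equiv.Perm.sign σ = 1 then 0 else 1 : ZMod 2)
  have ht : ∀ σ τ, t (σ * τ) = t σ * t τ := fun σ τ => by
    simp only [t]
    rw [perm3_mul, perm3_sign_mul, wp_add hw3, wp_add hs2]
    by_cases h : Equiv.Perm.sign σ = 1
    · simp only [h, if_true, wp_zero, mul_one, one_mul, mul_assoc]
    · simp only [h, if_false, wp_one]
      have := hsp (zf τ)
      simp only [mul_assoc] at this ⊢
      rw [← mul_assoc s, this, mul_assoc]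
  have htc : ∀ σ a, Commute (t σ) (ψ a) := fun σ a =>
    ((show Commute w (ψ a) from hcw a).pow_left _).mul_left ((show Commute s (ψ a) from hcs a).pow_left _)
  have htN : ∀ σ, t σ ∈ N := fun σ => mul_mem (pow_mem hwN _) (pow_mem hsN _)
  let Φ : Equiv.Perm (Fin 3) × A →* ↥N :=
    MonoidHom.mk' (fun x => ⟨t x.1 * ψ x.2, mul_mem (htN _) (hψN _)⟩) fun x y => Subtype.ext (by
      show t (x.1 * y.1) * ψ (x.2 * y.2) = t x.1 * ψ x.2 * (t y.1 * ψ y.2)
      rw [ht, map_mul]
      exact (htc y.1 x.2).mul_mul_mul_comm _ _)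
  have hinj : Function.Injective Φ := by
    rw [injective_iff_map_eq_one]
    rintro ⟨σ, b⟩ h
    have h' : t σ * ψ b = 1 := congrArg Subtype.val h
    have hbc : b ∈ Subgroup.center A := by
      refine Subgroup.mem_center_iff.2 fun c => hψ ?_
      rw [map_mul, map_mul, eq_inv_of_mul_eq_one_right h']
      exact (htc σ c).inv_left.eq.symm
    rw [hA, Subgroup.mem_bot] at hbc
    subst hbc
    rw [map_one, mul_one] at h'
    refine Prod.ext ?_ rfl
    simp only [t] at h'
    by_cases hsg : Equiv.Perm.sign σ = 1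
    · simp only [hsg, if_true] at h'
      rw [wp_zero, mul_one, wp] at h'
      have hd := orderOf_dvd_of_pow_eq_one h'
      rw [hw] at hd
      have h0 := Nat.eq_zero_of_dvd_of_lt hd (ZMod.val_lt (zf σ))
      exact (by decide : ∀ ρ : Equiv.Perm (Fin 3), Equiv.Perm.sign ρ = 1 → (zf ρ).val = 0 → ρ = 1)
        σ hsg h0
    · exfalso
      simp only [hsg, if_false, wp_one] at h'
      have e : s = (wp w (zf σ))⁻¹ := eq_inv_of_mul_eq_one_right h'
      have hcm : s * w = w * s := e ▸ ((Commute.refl w).pow_left _).inv_left.eq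
      rw [hcm, mul_assoc, hs, mul_one] at hsw
      have : w ^ 2 = 1 := by rw [sq]; exact mul_eq_one_iff_eq_inv.2 hsw
      have hd := orderOf_dvd_of_pow_eq_one this
      rw [hw] at hd
      exact absurd hd (by decide)
  have : Finite A := Finite.of_injective ψ hψ
  have hN : Nat.card ↥N ≤ 2 * Nat.card ↥(Subgroup.centralizer ({w} : Set G)) := by
    let f : Bool × ↥(Subgroup.centralizer ({w} : Set G)) → G := fun x =>
      if x.1 then s * x.2 else x.2
    have hsub : (N : Set G) ⊆ Set.range f := fun x hx => by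
      have hx' := (Subgroup.mem_normalizer_iff.1 hx w).1 (Subgroup.mem_zpowers w)
      rw [← mem_powers_iff_mem_zpowers, mem_powers_iff_mem_range_orderOf, Finset.mem_image] at hx'
      obtain ⟨k, hk, hk'⟩ := hx'
      rw [Finset.mem_range] at hk
      rw [hw] at hk
      interval_cases k
      · exfalso
        rw [pow_zero, eq_comm, conj_eq_one_iff] at hk'
        rw [hk', orderOf_one] at hw
        omega
      · refine ⟨(false, ⟨x, Subgroup.mem_centralizer_singleton_iff.2 ?_⟩), rfl⟩
        rw [pow_one] at hk'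
        conv_rhs => rw [hk']
        group
      · have hwi : x * w * x⁻¹ = w⁻¹ := by
          rw [← hk']
          exact eq_inv_of_mul_eq_one_left (by rw [← pow_succ, hw3])
        refine ⟨(true, ⟨s * x, Subgroup.mem_centralizer_singleton_iff.2 ?_⟩),
          show s * (s * x) = x by rw [← mul_assoc, hs, one_mul]⟩
        calc s * x * w = s * (x * w * x⁻¹) * x := by group
          _ = w * (s * x) := by
            rw [hwi, ← hsw, mul_assoc s w s, ← mul_assoc s s, hs, one_mul]
            simp only [mul_assoc]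
    calc Nat.card ↥N ≤ Nat.card ↥(Set.range f) := Nat.card_mono (Set.toFinite _) hsub
      _ ≤ Nat.card (Bool × ↥(Subgroup.centralizer ({w} : Set G))) :=
        Nat.card_le_card_of_surjective (Set.rangeFactorization f) Set.rangeFactorization_surjective
      _ = _ := by rw [Nat.card_prod, Nat.card_eq_fintype_card (α := Bool), Fintype.card_bool]
  have hb : Function.Bijective Φ := by
    refine (Nat.bijective_iff_injective_and_card _).2 ⟨hinj, ?_⟩
    refine le_antisymm (Nat.card_le_card_of_injective _ hinj) ?_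
    rw [Nat.card_prod, show Nat.card (Equiv.Perm (Fin 3)) = 6 by
      rw [Nat.card_eq_fintype_card]; rfl]
    omega
  exact ⟨(MulEquiv.ofBijective Φ hb).symm⟩

end Cfsg.Agent.CoOneUniq.Local
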