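import Cfsg.Agent.CoOneUniq.Local.Carm
import Cfsg.Agent.CoOneUniq.Local.Lift
import Cfsg.Agent.CoOneUniq.Local.Wrap

/-!
# The two local subgroups of the model from their data

Elements of odd order upstairs, bounds on their centralisers and Carmichael generators in the image
determine the centraliser of order `7 * |A7|` and the normaliser `S3 × A9`.
-/

set_option autoImplicit false

open Cfsg
open Cfsg.Agent.Leech.CentOne (toCo)

namespace Cfsg.Agent.CoOneUniq.Local

theorem alt_center {n : ℕ} (hn : 4 ≤ n) : Subgroup.center (alternatingGroup (Fin n)) = ⊥ :=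
  alternatingGroup.center_eq_bot (by rwa [Nat.card_eq_fintype_card, Fintype.card_fin])

theorem card_alt (n : ℕ) : 2 * Nat.card (alternatingGroup (Fin (n + 2))) = (n + 2).factorial := by
  rw [two_mul_nat_card_alternatingGroup, Nat.card_perm, Nat.card_fin]

theorem exists_alt_injective {G : Type*} [Group G] [Finite G] {n : ℕ} (hn : 3 ≤ n) (f : ℕ → G)
    (h3 : ∀ i, i < n → f i ^ 3 = 1)
    (h2 : ∀ i j, i < n → j < n → i ≠ j → (f i * f j) ^ 2 = 1) (hne : ∃ i, i < n ∧ f i ≠ 1) :
    ∃ ψ : alternatingGroup (Fin (n + 2)) →* G, Function.Injective ψ ∧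
      ∀ a, ψ a ∈ Subgroup.closure (f '' Set.Iio n) := by
  obtain ⟨ψ, ⟨a, ha⟩, hr⟩ := exists_alt_hom f h3 h2 hne
  have : IsSimpleGroup (alternatingGroup (Fin (n + 2))) :=
    alternatingGroup.isSimpleGroup (by rw [Nat.card_eq_fintype_card, Fintype.card_fin]; omega)
  exact ⟨ψ, injective_of_simple ψ ha, hr⟩

/-- The centraliser of order `7 * 2520`. -/
theorem exists_seven {v : ↥Co0} (hv : orderOf v = 7)
    (hC : Nat.card ↥(Subgroup.centralizer ({v} : Set ↥Co0)) ≤ 35280) (f : ℕ → Spor.Co1)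
    (h3 : ∀ i, i < 5 → f i ^ 3 = 1)
    (h2 : ∀ i j, i < 5 → j < 5 → i ≠ j → (f i * f j) ^ 2 = 1) (hne : ∃ i, i < 5 ∧ f i ≠ 1)
    (hf : ∀ i, i < 5 → toCo v * f i = f i * toCo v) :
    ∃ V : Subgroup Spor.Co1, Nat.card V = 7 ∧
      Nonempty (↥(Subgroup.centralizer (V : Set Spor.Co1)) ≃*
        Multiplicative (ZMod 7) × alternatingGroup (Fin 7)) := by
  have := Leech.finite_co0
  have : Finite Spor.Co1 := Finite.of_surjective toCo (QuotientGroup.mk'_surjective _)
  have : Fact (Nat.Prime 7) := ⟨by norm_num⟩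
  have ho : Odd (orderOf v) := by rw [hv]; decide
  obtain ⟨ψ, hψ, hr⟩ := exists_alt_injective (by norm_num) f h3 h2 hne
  refine exists_centralizer_equiv (alt_center (by norm_num)) (v := toCo v)
    ((orderOf_toCo ho).trans hv) ψ hψ (fun a => commute_of_closure hf (hr a)) ?_
  have h : 2 * Nat.card (alternatingGroup (Fin 7)) = Nat.factorial 7 := card_alt 5
  have := card_centralizer_toCo ho (m := 17640) (by omega)
  simp only [Nat.factorial] at h
  omega

/-- The normaliser `S3 × A9`. -/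
theorem exists_three {w : ↥Co0} (hw : orderOf w = 3)
    (hC : Nat.card ↥(Subgroup.centralizer ({w} : Set ↥Co0)) ≤ 1088640) (s : Spor.Co1)
    (hs : s * s = 1) (hsw : s * toCo w * s = (toCo w)⁻¹) (f : ℕ → Spor.Co1)
    (h3 : ∀ i, i < 7 → f i ^ 3 = 1)
    (h2 : ∀ i j, i < 7 → j < 7 → i ≠ j → (f i * f j) ^ 2 = 1) (hne : ∃ i, i < 7 ∧ f i ≠ 1)
    (hf : ∀ i, i < 7 → toCo w * f i = f i * toCo w) (hfs : ∀ i, i < 7 → s * f i = f i * s) :
    ∃ W : Subgroup Spor.Co1, Nat.card W = 3 ∧
      Nonempty (↥(Subgroup.normalizer (W : Set Spor.Co1)) ≃*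
        Equiv.Perm (Fin 3) × alternatingGroup (Fin 9)) := by
  have := Leech.finite_co0
  have : Finite Spor.Co1 := Finite.of_surjective toCo (QuotientGroup.mk'_surjective _)
  have ho : Odd (orderOf w) := by rw [hw]; decide
  obtain ⟨ψ, hψ, hr⟩ := exists_alt_injective (by norm_num) f h3 h2 hne
  refine exists_normalizer_equiv (alt_center (by norm_num)) (w := toCo w) (s := s)
    ((orderOf_toCo ho).trans hw) hs hsw ψ hψ (fun a => commute_of_closure hf (hr a))
    (fun a => commute_of_closure hfs (hr a)) ?_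
  have h : 2 * Nat.card (alternatingGroup (Fin 9)) = Nat.factorial 9 := card_alt 7
  have := card_centralizer_toCo ho (m := 544320) (by omega)
  simp only [Nat.factorial] at h
  omega

end Cfsg.Agent.CoOneUniq.Local
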