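import Cfsg.Agent.LyLocal.AltCover

/-!
# Maps out of alternating groups from Carmichael generators
-/

set_option autoImplicit false

namespace Cfsg.Agent.CoOneUniq.Local

open Cfsg.Agent.AltMult Cfsg.Agent.ShortPres

variable {G : Type*} [Group G]

/-- Elements of order three, products of two of order two: a map out of the alternating group. -/
theorem exists_alt_hom {n : ℕ} (f : ℕ → G) (h3 : ∀ i, i < n → f i ^ 3 = 1)
    (h2 : ∀ i j, i < n → j < n → i ≠ j → (f i * f j) ^ 2 = 1) (hne : ∃ i, i < n ∧ f i ≠ 1) :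
    ∃ ψ : alternatingGroup (Fin (n + 2)) →* G, (∃ a, ψ a ≠ 1) ∧
      ∀ a, ψ a ∈ Subgroup.closure (f '' Set.Iio n) := by
  have h00 : 0 < n + 2 := by omega
  have h01 : 1 < n + 2 := by omega
  have huv : (⟨0, h00⟩ : Fin (n + 2)) ≠ ⟨1, h01⟩ := by simp
  obtain ⟨e, -⟩ := LyLocal.carm_iso huv
  let idx : Rest (⟨0, h00⟩ : Fin (n + 2)) ⟨1, h01⟩ → ℕ := fun x => x.1.val - 2
  have hge : ∀ x : Rest (⟨0, h00⟩ : Fin (n + 2)) ⟨1, h01⟩, 2 ≤ x.1.val := fun x => by
    have := x.2
    simp only [ne_eq, Fin.ext_iff] at this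
    omega
  have hlt : ∀ x, idx x < n := fun x => by
    have := hge x
    have := x.1.isLt
    show x.1.val - 2 < n
    omega
  have hinj : ∀ x y, idx x = idx y → x = y := fun x y h => by
    have := hge x
    have := hge y
    change x.1.val - 2 = y.1.val - 2 at h
    exact Subtype.ext (Fin.ext (by omega))
  have hrel : ∀ r ∈ LyLocal.carmRels (⟨0, h00⟩ : Fin (n + 2)) ⟨1, h01⟩,
      FreeGroup.lift (fun x => f (idx x)) r = 1 := by
    rintro r (⟨x, rfl⟩ | ⟨x, y, hxy, rfl⟩)
    · rw [map_pow, FreeGroup.lift_apply_of]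
      exact h3 _ (hlt x)
    · rw [map_pow, map_mul, FreeGroup.lift_apply_of, FreeGroup.lift_apply_of]
      exact h2 _ _ (hlt x) (hlt y) fun h => hxy (hinj x y h)
  let φ := PresentedGroup.toGroup hrel
  refine ⟨φ.comp e.symm.toMonoidHom, ?_, fun a => ?_⟩
  · obtain ⟨i, hi, hfi⟩ := hne
    refine ⟨e (PresentedGroup.of ⟨⟨i + 2, by omega⟩, by simp [Fin.ext_iff]⟩), ?_⟩
    show φ (e.symm (e _)) ≠ 1
    rw [e.symm_apply_apply, PresentedGroup.toGroup.of]
    exact hfi
  · show φ (e.symm a) ∈ _
    induction e.symm a using PresentedGroup.induction_on with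
    | H z =>
      induction z using FreeGroup.induction_on with
      | C1 => exact map_one φ ▸ one_mem _
      | of x =>
        show φ (PresentedGroup.of x) ∈ _
        rw [PresentedGroup.toGroup.of]
        exact Subgroup.subset_closure ⟨idx x, hlt x, rfl⟩
      | inv_of x h =>
        show φ (PresentedGroup.mk _ (FreeGroup.of x)⁻¹) ∈ _
        rw [map_inv, map_inv]
        exact inv_mem h
      | mul a b ha hb =>
        show φ (PresentedGroup.mk _ (a * b)) ∈ _
        rw [map_mul, map_mul]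
        exact mul_mem ha hb

/-- A centraliser is reached from the generators. -/
theorem commute_of_closure {v : G} {n : ℕ} {f : ℕ → G} (h : ∀ i, i < n → v * f i = f i * v) {g : G}
    (hg : g ∈ Subgroup.closure (f '' Set.Iio n)) : v * g = g * v := by
  have hle : Subgroup.closure (f '' Set.Iio n) ≤ Subgroup.centralizer {v} := by
    rw [Subgroup.closure_le]
    rintro _ ⟨i, hi, rfl⟩
    exact Subgroup.mem_centralizer_singleton_iff.2 (h i hi).symm
  exact (Subgroup.mem_centralizer_singleton_iff.1 (hle hg)).symm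

end Cfsg.Agent.CoOneUniq.Local
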