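import Cfsg.Agent.CoOneUniq.Local.L16
import Cfsg.Agent.Leech.UnitaryStab

/-!
# Bounding a centraliser by a base of shortest vectors

A subgroup commuting with an element fixes with a vector its images; the orbit of the next vector
then lies among the candidates with the same scalar products.
-/

set_option autoImplicit false

open Cfsg Finset

namespace Cfsg.Agent.CoOneUniq.Local

open Cfsg.Agent.Leech (idx ptOf toL LGen)

/-- The standard short vector as a list. -/
def uList : List ℤ := (List.range 24).map fun i => if i < 2 then 4 else 0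

/-- A list of coordinates is a fixed lattice vector. -/
def Fixed (P : Subgroup ↥Co0) (l : List ℤ) : Prop :=
  ∃ v : leechLattice, toL (v : GolayPt → ℤ) = l ∧ ∀ h ∈ P, h • v = v

/-- The state of the chain. -/
structure Inv (g : LGen) (P : Subgroup ↥Co0) (fl : List (List ℤ)) : Prop where
  comm : ∀ h ∈ P, h * g.g = g.g * h
  fix : ∀ l ∈ fl, Fixed P l

/-- The packed form of a vector in the tests. -/
def rev (w : List ℤ) : ℕ := code w.reverse

/-- The all-one vector in the tests. -/
def ones : ℕ := npack (List.replicate 24 1)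

/-- The linear tests of a vector. -/
def keysOf (fl : List (List ℤ)) (y : List ℤ) : List (ℕ × ℕ) :=
  fl.map fun w => (rev w, (dotL y w + 8 * w.sum + 4096).toNat)

/-- One linear test. -/
def keyB (c : ℕ) (k : ℕ × ℕ) : Bool :=
  Nat.beq (Nat.add (dig c k.1) 4096) (Nat.add (Nat.mul 8 (dig c ones)) k.2)

/-- All tests of a candidate. -/
def candB (f : List ℤ → List ℤ) (keys : List (ℕ × ℕ)) (selfs : List (ℕ × ℤ)) (c : ℕ) : Bool :=
  keys.all (keyB c) && selfs.all fun s => decide (dotL (decV c) (f^[s.1] (decV c)) = s.2)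

/-- An orbit given as successive images. -/
def orbB (f : List ℤ → List ℤ) : List (List ℤ) → Bool
  | a :: b :: t => decide (f a = b) && orbB f (b :: t)
  | _ => true

/-- A shortest vector with small entries. -/
def shortB (w : List ℤ) : Bool :=
  decide (w.length = 24) && decide (dotL w w = 32)

theorem dot_toL (x y : GolayPt → ℤ) : dotL (toL x) (toL y) = dotInt x y := by
  rw [dotL_sum _ _ (by rw [toL_length, toL_length]), toL_length, dotInt, sum_pts]
  exact Finset.sum_congr rfl fun i hi => by
    rw [Leech.toL_getD _ _ (mem_range.1 hi), Leech.toL_getD _ _ (mem_range.1 hi)]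

theorem bound_toL {x : GolayPt → ℤ} (hn : sqNorm x = 32) : ∀ a ∈ toL x, -8 ≤ a ∧ a ≤ 8 := by
  intro a ha
  obtain ⟨i, -, rfl⟩ := List.mem_map.1 ha
  exact coord_bound (b := 8) hn.le (by norm_num) (by norm_num) _

theorem code_digit {a b : List ℤ} (ha : a.length = 24) (hb : b.length = 24)
    (hab : ∀ x ∈ a, -8 ≤ x ∧ x ≤ 8) (hbb : ∀ x ∈ b, -8 ≤ x ∧ x ≤ 8) :
    (dig (code a) (rev b) : ℤ) = dotL a b + 8 * a.sum + 8 * b.sum + 1536 ∧
      (dig (code a) ones : ℤ) = a.sum + 192 := by
  have hnn : ∀ l : List ℤ, (∀ x ∈ l, -8 ≤ x ∧ x ≤ 8) →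
      ∀ x ∈ l.map (fun z => (z + 8).toNat), x ≤ 16 := by
    intro l hl x hx
    obtain ⟨z, hz, rfl⟩ := List.mem_map.1 hx
    have := hl z hz; omega
  have hget : ∀ l : List ℤ, l.length = 24 → (∀ x ∈ l, -8 ≤ x ∧ x ≤ 8) → ∀ i < 24,
      (((l.map fun z => (z + 8).toNat).getD i 0 : ℕ) : ℤ) = l.getD i 0 + 8 := by
    intro l hl hl' i hi
    have hi' : i < l.length := hl.symm ▸ hi
    simp only [List.getD_eq_getElem?_getD, List.getElem?_map, List.getElem?_eq_getElem hi',
      Option.map_some, Option.getD_some]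
    have := hl' _ (List.getElem_mem hi'); omega
  have hsum : ∀ l : List ℤ, l.length = 24 → ∑ i ∈ range 24, l.getD i 0 = l.sum := by
    intro l hl
    rw [← hl, ← Fin.sum_univ_eq_sum_range (fun i => l.getD i 0), ← List.sum_ofFn]
    congr 1
    exact List.ext_getElem (by simp) fun i h1 h2 => by simp [List.getD_eq_getElem?_getD]
  have hrev : ∀ i < 24, b.reverse.getD (23 - i) 0 = b.getD i 0 := fun i hi => by
    simp only [List.getD_eq_getElem?_getD]
    rw [List.getElem?_reverse (by omega), hb, show 24 - 1 - (23 - i) = i by omega]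
  constructor
  · have hd := prod_digit (a.map fun z => (z + 8).toNat) (b.reverse.map fun z => (z + 8).toNat)
      (by simp [ha]) (by simp [hb]) 16 16 (hnn a hab)
      (hnn _ fun x hx => hbb x (List.mem_reverse.1 hx)) (by decide)
    rw [code, rev, code, dig_eq, hd, Nat.cast_sum, dotL_sum a b (ha.trans hb.symm), hb,
      ← hsum a ha, ← hsum b hb, Finset.mul_sum, Finset.mul_sum, ← Finset.sum_add_distrib,
      ← Finset.sum_add_distrib, show (1536 : ℤ) = ∑ _i ∈ range 24, (64 : ℤ) by simp,
      ← Finset.sum_add_distrib]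
    refine Finset.sum_congr rfl fun i hi => ?_
    rw [Nat.cast_mul, hget a ha hab i (mem_range.1 hi),
      hget b.reverse (by simp [hb]) (fun x hx => hbb x (List.mem_reverse.1 hx)) _ (by omega),
      hrev i (mem_range.1 hi)]
    ring
  · have hd := prod_digit (a.map fun z => (z + 8).toNat) (List.replicate 24 1) (by simp [ha])
      (by simp) 16 1 (hnn a hab) (fun x hx => le_of_eq (List.eq_of_mem_replicate hx)) (by decide)
    rw [code, ones, dig_eq, hd, Nat.cast_sum, ← hsum a ha,
      show (192 : ℤ) = ∑ _i ∈ range 24, (8 : ℤ) by simp, ← Finset.sum_add_distrib]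
    refine Finset.sum_congr rfl fun i hi => ?_
    have : (List.replicate 24 1).getD (23 - i) 0 = 1 := by
      rw [List.getD_eq_getElem?_getD, List.getElem?_replicate_of_lt (by omega)]; rfl
    rw [this, mul_one, hget a ha hab i (mem_range.1 hi)]

theorem iterate_spec (g : LGen) : ∀ (k : ℕ) (v : leechLattice),
    toL (((g.g ^ k) • v : leechLattice) : GolayPt → ℤ) = g.f^[k] (toL (v : GolayPt → ℤ))
  | 0, v => by simp
  | k + 1, v => by rw [pow_succ', mul_smul, g.spec, iterate_spec g k v, Function.iterate_succ_apply']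

theorem orb_fixed {g : LGen} {P : Subgroup ↥Co0} (hc : ∀ h ∈ P, h * g.g = g.g * h) :
    ∀ (orb : List (List ℤ)), orbB g.f orb = true → (∀ a, orb.head? = some a → Fixed P a) →
      ∀ l ∈ orb, Fixed P l
  | [], _, _ => fun l hl => by simp at hl
  | [a], _, h => fun l hl => by
    rw [List.mem_singleton] at hl; subst hl; exact h _ rfl
  | a :: b :: t, ho, h => fun l hl => by
    simp only [orbB, Bool.and_eq_true, decide_eq_true_eq] at ho
    obtain ⟨v, hv, hfix⟩ := h a rfl
    rcases List.mem_cons.1 hl with rfl | hl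
    · exact ⟨v, hv, hfix⟩
    · refine orb_fixed hc (b :: t) ho.2 (fun c hc' => ?_) l hl
      simp only [List.head?_cons, Option.some.injEq] at hc'
      subst hc'
      refine ⟨g.g • v, by rw [g.spec, hv, ho.1], fun k hk => ?_⟩
      rw [← mul_smul, hc k hk, mul_smul, hfix k hk]

/-- The next vector of the base: at most `n` candidates. -/
theorem step {g : LGen} {P : Subgroup ↥Co0} {fl : List (List ℤ)} (I : Inv g P fl)
    (hU : uList ∈ fl) (y : List ℤ) (orb : List (List ℤ)) (keys : List (ℕ × ℕ))
    (selfs : List (ℕ × ℤ)) (n : ℕ)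
    (hy : (memB y && shortB y && decide (y.getD 0 0 + y.getD 1 0 = 4)) = true)
    (hfl : (fl.all shortB) = true) (hk : keysOf fl y = keys)
    (hs : (selfs.all fun s => decide (dotL y (g.f^[s.1] y) = s.2)) = true)
    (ho : (decide (orb.head? = some y) && orbB g.f orb) = true)
    (hn : Nat.ble (l16.countP (candB g.f keys selfs)) n = true) :
    ∃ P' : Subgroup ↥Co0, Nat.card ↥P ≤ n * Nat.card ↥P' ∧ Inv g P' (fl ++ orb) := by
  classical
  simp only [Bool.and_eq_true, decide_eq_true_eq, shortB, List.all_eq_true] at hy hfl ho hs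
  obtain ⟨⟨hym, hylen, hy32⟩, hy4⟩ := hy
  set v : leechLattice := ⟨ofL y, memB_mem hym⟩ with hv
  have hvL : toL (v : GolayPt → ℤ) = y := toL_ofL hylen
  have hvn : sqNorm (v : GolayPt → ℤ) = 32 := by
    rw [show sqNorm (v : GolayPt → ℤ) = dotInt (v : GolayPt → ℤ) (v : GolayPt → ℤ) by
      simp [sqNorm, dotInt, sq], ← dot_toL, hvL, hy32]
  have hfull : ∀ u ∈ MulAction.orbit ↥P v,
      code (toL (u : GolayPt → ℤ)) ∈ l16.filter (candB g.f keys selfs) := by
    rintro _ ⟨⟨h, hh⟩, rfl⟩
    show code (toL ((h • v : leechLattice) : GolayPt → ℤ)) ∈ _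
    set u : leechLattice := h • v with hu
    have hun : sqNorm (u : GolayPt → ℤ) = 32 := by rw [hu, Leech.sqNorm_smul, hvn]
    have hdot : ∀ w ∈ fl, dotL (toL (u : GolayPt → ℤ)) w = dotL y w := fun w hw => by
      obtain ⟨z, rfl, hz⟩ := I.fix w hw
      rw [← hvL, dot_toL, dot_toL]
      conv_lhs => rw [← hz h hh]
      exact Leech.dotInt_smul h v z
    have h4 : (u : GolayPt → ℤ) (ptOf 0) + (u : GolayPt → ℤ) (ptOf 1) = 4 := by
      have hd := hdot uList hU
      have he : ∀ l : List ℤ, l.length = 24 → dotL l uList = 4 * (l.getD 0 0 + l.getD 1 0) := fun l hl => by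
        rw [dotL_sum _ _ (by simp [uList, hl]), show uList.length = 24 by simp [uList],
          ← Finset.sum_subset (show ({0, 1} : Finset ℕ) ⊆ range 24 by decide), Finset.sum_pair (by norm_num)]
        · simp [uList]; ring
        · intro i hi hi2
          simp only [Finset.mem_insert, Finset.mem_singleton, not_or] at hi2
          simp [uList, List.getD_eq_getElem?_getD, mem_range.1 hi]
          intro; omega
      rw [he _ (toL_length _), he _ hylen, hy4, Leech.toL_getD _ _ (by norm_num),
        Leech.toL_getD _ _ (by norm_num)] at hd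
      omega
    rw [List.mem_filter]
    refine ⟨code_mem_l16 u.2 hun h4, ?_⟩
    simp only [candB, Bool.and_eq_true, List.all_eq_true, decide_eq_true_eq]
    refine ⟨fun k hk' => ?_, fun s hs' => ?_⟩
    · rw [← hk] at hk'
      obtain ⟨w, hw, rfl⟩ := List.mem_map.1 hk'
      obtain ⟨hwl, hw32⟩ := hfl w hw
      obtain ⟨z, hzw, -⟩ := I.fix w hw
      have hwb : ∀ a ∈ w, -8 ≤ a ∧ a ≤ 8 := hzw ▸ bound_toL (by
        rw [show sqNorm (z : GolayPt → ℤ) = dotInt (z : GolayPt → ℤ) (z : GolayPt → ℤ) by
          simp [sqNorm, dotInt, sq], ← dot_toL, hzw, hw32])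
      obtain ⟨h1, h2⟩ := code_digit (toL_length _) hwl (bound_toL hun) hwb
      rw [hdot w hw] at h1
      have hsum : -192 ≤ w.sum ∧ w.sum ≤ 192 := by
        constructor
        · have := List.card_nsmul_le_sum w (-8) fun a ha => (hwb a ha).1
          simp [hwl] at this; omega
        · have := List.sum_le_card_nsmul w 8 fun a ha => (hwb a ha).2
          simp [hwl] at this; omega
      have hdw : -1536 ≤ dotL y w := by
        rw [← hvL, ← hzw, dot_toL, dotInt, sum_pts]
        have := Finset.card_nsmul_le_sum (range 24)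
          (fun i => (v : GolayPt → ℤ) (ptOf i) * (z : GolayPt → ℤ) (ptOf i)) (-64) fun i hi => by
            have a1 := coord_bound (b := 8) hvn.le (by norm_num) (by norm_num) (ptOf i)
            have a2 := hwb ((z : GolayPt → ℤ) (ptOf i)) (by
              rw [← hzw]; exact List.mem_map.2 ⟨i, List.mem_range.2 (mem_range.1 hi), rfl⟩)
            nlinarith
        simp at this
        omega
      show Nat.beq (dig (code (toL (u : GolayPt → ℤ))) (rev w) + 4096)
        (8 * dig (code (toL (u : GolayPt → ℤ))) ones + (dotL y w + 8 * w.sum + 4096).toNat) = true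
      rw [Nat.beq_eq]
      omega
    · rw [decV_code (toL_length _) (bound_toL hun), ← iterate_spec, dot_toL,
        ← hs s hs', ← hvL, ← iterate_spec, dot_toL, hu, ← mul_smul]
      have hcomm : g.g ^ s.1 * h = h * g.g ^ s.1 := ((show Commute h g.g from I.comm h hh).pow_right _).eq.symm
      rw [hcomm, mul_smul, Leech.dotInt_smul]
  refine ⟨P ⊓ MulAction.stabilizer ↥Co0 v, ?_, ⟨fun h hh => I.comm h (Subgroup.mem_inf.1 hh).1, fun l hl => ?_⟩⟩
  · rw [Leech.card_orbit_stab P v]
    refine Nat.mul_le_mul_right _ ?_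
    refine le_trans (Set.ncard_le_ncard_of_injOn (fun u : leechLattice => code (toL (u : GolayPt → ℤ)))
      (t := ↑(l16.filter (candB g.f keys selfs)).toFinset) (fun u hu => by simpa using hfull u hu)
      (fun u hu u' hu' e => ?_) (Finset.finite_toSet _)) ?_
    · have hb : ∀ w ∈ MulAction.orbit ↥P v, decV (code (toL (w : GolayPt → ℤ))) = toL (w : GolayPt → ℤ) := by
        rintro _ ⟨⟨h, hh⟩, rfl⟩
        refine decV_code (toL_length _) (bound_toL ?_)
        show sqNorm ((h • v : leechLattice) : GolayPt → ℤ) = 32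
        rw [Leech.sqNorm_smul, hvn]
      exact Subtype.ext (Leech.toL_injective (by rw [← hb u hu, ← hb u' hu']; exact congrArg decV e))
    · rw [Set.ncard_coe_finset, List.countP_eq_length_filter] at *
      exact (List.toFinset_card_le _).trans (Nat.le_of_ble_eq_true hn)
  · rcases List.mem_append.1 hl with hl | hl
    · obtain ⟨z, hz, hfix⟩ := I.fix l hl
      exact ⟨z, hz, fun h hh => hfix h (Subgroup.mem_inf.1 hh).1⟩
    · refine orb_fixed (fun h hh => I.comm h (Subgroup.mem_inf.1 hh).1) orb ho.2 (fun a ha => ?_) l hl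
      rw [ho.1, Option.some.injEq] at ha
      exact ⟨v, ha ▸ hvL, fun h hh => (Subgroup.mem_inf.1 hh).2⟩

/-- The first vector: bounded by the scalar products with the images. -/
theorem first {g : LGen} (Ms : List (List (List ℤ))) (ts : List ℤ)
    (hMs : ∀ k < Ms.length, ∃ h : matB (Ms.getD k []) = true,
      (matGen (Ms.getD k []) h).g = g.g ^ (k + 1))
    (orb : List (List ℤ)) (ho : (decide (orb.head? = some uList) && orbB g.f orb) = true)
    (hts : ((List.range Ms.length).all fun k =>
      decide (dotL uList (mapL (Ms.getD k []) uList) = ts.getD k 0)) = true) (n : ℕ)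
    (hn : {x : GolayPt → ℤ | x ∈ leechLattice ∧ sqNorm x = 32 ∧
        ∀ k < Ms.length, dotInt x (app (Ms.getD k []) x) = ts.getD k 0}.ncard ≤ n) :
    ∃ P' : Subgroup ↥Co0,
      Nat.card ↥(Subgroup.centralizer ({g.g} : Set ↥Co0)) ≤ n * Nat.card ↥P' ∧ Inv g P' orb := by
  simp only [Bool.and_eq_true, decide_eq_true_eq, List.all_eq_true, List.mem_range] at ho hts
  have hU : memB uList = true := by decide +kernel
  set v : leechLattice := ⟨ofL uList, memB_mem hU⟩ with hv
  have hvL : toL (v : GolayPt → ℤ) = uList := toL_ofL (by simp [uList])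
  have hvn : sqNorm (v : GolayPt → ℤ) = 32 := by
    rw [show sqNorm (v : GolayPt → ℤ) = dotInt (v : GolayPt → ℤ) (v : GolayPt → ℤ) by
      simp [sqNorm, dotInt, sq], ← dot_toL, hvL]
    decide +kernel
  set P := Subgroup.centralizer ({g.g} : Set ↥Co0) with hP
  have hcomm : ∀ h ∈ P, h * g.g = g.g * h := fun h hh =>
    (Subgroup.mem_centralizer_singleton_iff.1 hh)
  refine ⟨P ⊓ MulAction.stabilizer ↥Co0 v, ?_, ⟨fun h hh => hcomm h (Subgroup.mem_inf.1 hh).1,
    orb_fixed (fun h hh => hcomm h (Subgroup.mem_inf.1 hh).1) orb ho.2 fun a ha => ?_⟩⟩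
  · rw [Leech.card_orbit_stab P v]
    refine Nat.mul_le_mul_right _ (le_trans ?_ hn)
    refine Set.ncard_le_ncard_of_injOn (fun u : leechLattice => (u : GolayPt → ℤ)) ?_
      (fun u _ u' _ e => Subtype.ext e) ((Set.finite_of_ncard_ne_zero
        (s := {x : GolayPt → ℤ | x ∈ leechLattice ∧ sqNorm x = 32})
        (by rw [Leech.ncard_norm32]; norm_num)).subset fun x hx => ⟨hx.1, hx.2.1⟩)
    rintro _ ⟨⟨h, hh⟩, rfl⟩
    refine ⟨(h • v : leechLattice).2, by rw [← hvn]; exact Leech.sqNorm_smul h v, fun k hk => ?_⟩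
    obtain ⟨hM, hMg⟩ := hMs k hk
    have hk' : (g.g ^ (k + 1)) * h = h * g.g ^ (k + 1) :=
      ((show Commute h g.g from hcomm h hh).pow_right _).eq.symm
    show dotInt ((h • v : leechLattice) : GolayPt → ℤ)
      (((matGen _ hM).g • (h • v) : leechLattice) : GolayPt → ℤ) = _
    rw [hMg, ← mul_smul, hk', mul_smul, Leech.dotInt_smul, ← hMg, ← dot_toL, (matGen _ hM).spec,
      hvL]
    exact hts k hk
  · rw [ho.1, Option.some.injEq] at ha
    exact ⟨v, ha ▸ hvL, fun h hh => (Subgroup.mem_inf.1 hh).2⟩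

/-- A combination of lists. -/
def comb : List ℤ → List (List ℤ) → List ℤ
  | c :: cs, w :: ws => List.zipWith (· + ·) (w.map (c * ·)) (comb cs ws)
  | _, _ => List.replicate 24 0

/-- The certificate that the fixed vectors span. -/
def spanB (D : ℤ) (C : List (List ℤ)) (ws : List (List ℤ)) : Bool :=
  decide (D ≠ 0) && (List.range 24).all fun i =>
    decide (comb (C.getD i []) ws = (octList i).map (D * ·))

theorem comb_fixed {P : Subgroup ↥Co0} : ∀ (cs : List ℤ) (ws : List (List ℤ)),
    (∀ w ∈ ws, Fixed P w) → Fixed P (comb cs ws)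
  | [], _, _ => ⟨0, by simp [comb, toL, List.replicate_succ, List.range_succ_eq_map], fun h _ =>
      Subtype.ext (map_zero (Leech.actHom h))⟩
  | _ :: _, [], _ => ⟨0, by simp [comb, toL, List.replicate_succ, List.range_succ_eq_map], fun h _ =>
      Subtype.ext (map_zero (Leech.actHom h))⟩
  | c :: cs, w :: ws, hw => by
    obtain ⟨a, ha, hfa⟩ := hw w List.mem_cons_self
    obtain ⟨b, hb, hfb⟩ := comb_fixed cs ws fun x hx => hw x (List.mem_cons_of_mem _ hx)
    refine ⟨c • a + b, ?_, fun h hh => ?_⟩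
    · rw [comb, ← ha, ← hb]
      refine List.ext_getElem (by simp [toL]) fun i h1 h2 => ?_
      simp [toL]
    · rw [Leech.smul_add', hfb h hh]
      congr 1
      refine Subtype.ext ?_
      show Leech.actHom h (c • a) = _
      rw [map_zsmul]
      show c • ((h • a : leechLattice) : GolayPt → ℤ) = _
      rw [hfa h hh]; rfl

/-- Fixed vectors that span leave only the identity. -/
theorem card_eq_one {g : LGen} {P : Subgroup ↥Co0} {fl : List (List ℤ)} (I : Inv g P fl)
    (ws : List (List ℤ)) (hws : ∀ w ∈ ws, w ∈ fl) (D : ℤ) (C : List (List ℤ))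
    (hC : spanB D C ws = true) : Nat.card ↥P = 1 := by
  simp only [spanB, Bool.and_eq_true, decide_eq_true_eq, List.all_eq_true, List.mem_range] at hC
  obtain ⟨hD, hC⟩ := hC
  rw [Subgroup.card_eq_one, Subgroup.eq_bot_iff_forall]
  intro h hh
  refine Leech.ext_of_oct fun i => ?_
  rw [one_smul]
  obtain ⟨z, hz, hfix⟩ := comb_fixed (C.getD (idx i) []) ws fun w hw => I.fix w (hws w hw)
  rw [hC _ (Leech.idx_lt i)] at hz
  have e : z = D • Leech.oct i := Subtype.ext (Leech.toL_injective (by
    rw [hz, ← toL_oct]; simp [toL]))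
  have h2 := congrArg (fun u : leechLattice => (u : GolayPt → ℤ)) (hfix h hh)
  simp only [e] at h2
  change Leech.actHom h (D • Leech.oct i) = _ at h2
  rw [map_zsmul, AddSubgroup.coe_zsmul] at h2
  refine Subtype.ext (funext fun q => ?_)
  have := congrFun h2 q
  simp only [Pi.smul_apply, smul_eq_mul] at this
  exact mul_left_cancel₀ hD this

end Cfsg.Agent.CoOneUniq.Local
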