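import Cfsg.Agent.CoOneUniq.Local.Shapes

/-!
# Counting shortest vectors by the values of an additive function

A bound for the number of vectors of squared length 32 whose value under an integer valued additive
function passes a test, computed from the three shapes of these vectors.
-/

set_option autoImplicit false
set_option maxRecDepth 100000

open Cfsg Finset

namespace Cfsg.Agent.CoOneUniq.Local

open Cfsg.Agent.Leech (idx ptOf bitWord allMasks)

/-! ### the three scans, written with recursors for the kernel -/

/-- Bit `i` of `m`, by primitives. -/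
def bit (m i : ℕ) : Bool := Nat.beq (Nat.land (Nat.shiftRight m i) 1) 1

/-- Sign choices of an even number of negative signs along a list of columns. -/
noncomputable def signs (p : ℕ → Bool) : List (ℕ × ℕ) → Bool → ℕ → ℕ → ℕ :=
  fun l => List.rec (fun par acc c => Bool.rec (Bool.rec c (Nat.add c 1) (p acc)) c par)
    (fun h _ ih par acc c => ih (Bool.rec true false par) (Nat.add acc h.2)
      (ih par (Nat.add acc h.1) c)) l

/-- All octads. -/
noncomputable def octScan (p : ℕ → Bool) (z : ℕ) (L : List (List (ℕ × ℕ))) : ℕ :=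
  List.rec 0 (fun h _ ih => signs p h false z ih) L

/-- The signed total of the columns. -/
noncomputable def total (m : ℕ) (l : List (ℕ × ℕ)) : ℕ → ℕ → ℕ :=
  List.rec (fun _ acc => acc)
    (fun h _ ih i acc => ih (Nat.add i 1) (Nat.add acc (Bool.rec h.1 h.2 (bit m i)))) l

/-- The moves of one coordinate. -/
noncomputable def moves (p : ℕ → Bool) (m S : ℕ) (l : List (ℕ × ℕ)) : ℕ → ℕ → ℕ :=
  List.rec (fun _ c => c)
    (fun h _ ih i c => ih (Nat.add i 1)
      (Bool.rec c (Nat.add c 1) (p (Nat.add S (Bool.rec h.2 h.1 (bit m i)))))) l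

/-- All sign patterns of odd vectors. -/
noncomputable def oddScan (p : ℕ → Bool) (z : ℕ) (l1 l4 : List (ℕ × ℕ)) (M : List ℕ) : ℕ :=
  List.rec 0 (fun m _ ih => moves p m (total m l1 0 z) l4 0 ih) M

/-! ### the same as lists -/

theorem bit_eq (m i : ℕ) : bit m i = m.testBit i := by
  show Nat.beq (m >>> i &&& 1) 1 = m.testBit i
  rw [Nat.and_one_is_mod, Nat.testBit_eq_decide_div_mod_eq, Nat.shiftRight_eq_div_pow]
  rcases Nat.mod_two_eq_zero_or_one (m / 2 ^ i) with h | h <;> rw [h] <;> rfl

/-- The value of a sign pattern. -/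
def leaf : ℕ → List (ℕ × ℕ) → List Bool → ℕ
  | acc, h :: t, b :: s => leaf (acc + if b then h.2 else h.1) t s
  | acc, _, _ => acc

theorem signs_eq (p : ℕ → Bool) : ∀ (l : List (ℕ × ℕ)) (par : Bool) (acc c : ℕ),
    signs p l par acc c = c + (sigs l.length par).countP fun s => p (leaf acc l s)
  | [], par, acc, c => by
    cases par
    · show Bool.rec (motive := fun _ => ℕ) c (c + 1) (p acc) = _
      cases h : p acc <;> simp [sigs, leaf, h]
    · show c = _
      simp [sigs]
  | h :: t, par, acc, c => by
    show signs p t (Bool.rec true false par) (acc + h.2) (signs p t par (acc + h.1) c) = _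
    rw [signs_eq p t, signs_eq p t, List.length_cons, sigs, List.countP_append, List.countP_map,
      List.countP_map, show (Bool.rec true false par : Bool) = !par by cases par <;> rfl, add_assoc]
    rfl

theorem octScan_eq (p : ℕ → Bool) (z : ℕ) : ∀ L : List (List (ℕ × ℕ)),
    octScan p z L = (L.map fun h => (sigs h.length false).countP fun s => p (leaf z h s)).sum
  | [] => rfl
  | h :: t => by
    show signs p h false z (octScan p z t) = _
    rw [signs_eq, octScan_eq p z t, List.map_cons, List.sum_cons, add_comm]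

theorem total_eq (m : ℕ) : ∀ (l : List (ℕ × ℕ)) (i acc : ℕ), total m l i acc =
    acc + ∑ j ∈ range l.length, if m.testBit (i + j) then (l.getD j 0).2 else (l.getD j 0).1
  | [], i, acc => by simp [total]
  | h :: t, i, acc => by
    show total m t (i + 1) (acc + Bool.rec h.1 h.2 (bit m i)) = _
    rw [total_eq m t, bit_eq, List.length_cons, Finset.sum_range_succ']
    simp only [List.getD_cons_zero, List.getD_cons_succ, add_zero,
      show ∀ j, i + 1 + j = i + (j + 1) from fun j => by omega]
    cases m.testBit i <;> simp <;> ring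

theorem moves_eq (p : ℕ → Bool) (m S : ℕ) : ∀ (l : List (ℕ × ℕ)) (i c : ℕ), moves p m S l i c =
    c + (List.range l.length).countP fun j =>
      p (S + if m.testBit (i + j) then (l.getD j 0).1 else (l.getD j 0).2)
  | [], i, c => by simp [moves]
  | h :: t, i, c => by
    show moves p m S t (i + 1)
      (Bool.rec c (c + 1) (p (S + Bool.rec h.2 h.1 (bit m i)))) = _
    rw [moves_eq p m S t, bit_eq, List.length_cons, List.range_succ_eq_map, List.countP_cons,
      List.countP_map]
    simp only [List.getD_cons_zero, List.getD_cons_succ, add_zero, Function.comp_def,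
      show ∀ j, i + 1 + j = i + (j + 1) from fun j => by omega]
    cases m.testBit i <;> simp only [Bool.false_eq_true, if_false, if_true]
    · cases p (S + h.2) <;> simp <;> omega
    · cases p (S + h.1) <;> simp <;> omega

theorem oddScan_eq (p : ℕ → Bool) (z : ℕ) (l1 l4 : List (ℕ × ℕ)) : ∀ M : List ℕ,
    oddScan p z l1 l4 M =
      (M.map fun m => moves p m (total m l1 0 z) l4 0 0).sum
  | [] => rfl
  | m :: t => by
    show moves p m (total m l1 0 z) l4 0 (oddScan p z l1 l4 t) = _
    rw [List.map_cons, List.sum_cons, moves_eq, moves_eq p m _ l4 0 0, oddScan_eq p z l1 l4 t]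
    omega

/-! ### the bound -/

/-- The weighted sum. -/
def lin (K : ℕ → ℤ) (x : GolayPt → ℤ) : ℤ := ∑ i ∈ range 24, x (ptOf i) * K i

/-- Columns for entries `± k`, shifted by `B`. -/
def col (K : ℕ → ℤ) (B : ℕ) (k : ℤ) (i : ℕ) : ℕ × ℕ :=
  (((B : ℤ) + k * K i).toNat, ((B : ℤ) - k * K i).toNat)

/-- The shift is large enough. -/
def okB (K : ℕ → ℤ) (B Z : ℕ) : Bool :=
  decide (25 * B ≤ Z) && (List.range 24).all fun i => decide (4 * |K i| ≤ (B : ℤ))

/-- The vectors with an entry four, as values. -/
def pairVals (K : ℕ → ℤ) : List ℤ :=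
  (List.range 24).flatMap fun i => (List.range i).flatMap fun j =>
    [4 * K i + 4 * K j, 4 * K i - 4 * K j, -(4 * K i) + 4 * K j, -(4 * K i) - 4 * K j]

/-- The count over the octad shape, on part of the octads. -/
noncomputable def countOct (K : ℕ → ℤ) (B Z : ℕ) (p : ℕ → Bool) (L : List (List ℕ)) : ℕ :=
  octScan p (Z - 8 * B) (L.map fun l => l.map (col K B 2))

/-- The count over the odd shape, on part of the code. -/
noncomputable def countOdd (K : ℕ → ℤ) (B Z : ℕ) (p : ℕ → Bool) (M : List ℕ) : ℕ :=
  oddScan p (Z - 25 * B) ((List.range 24).map (col K B 1)) ((List.range 24).map (col K B 4)) M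

/-- The count over the pairs. -/
def countPair (K : ℕ → ℤ) (Z : ℕ) (p : ℕ → Bool) : ℕ :=
  (pairVals K).countP fun v => p ((Z : ℤ) + v).toNat

theorem countOct_append (K : ℕ → ℤ) (B Z : ℕ) (p : ℕ → Bool) (L L' : List (List ℕ)) :
    countOct K B Z p (L ++ L') = countOct K B Z p L + countOct K B Z p L' := by
  simp [countOct, octScan_eq]

theorem countOdd_append (K : ℕ → ℤ) (B Z : ℕ) (p : ℕ → Bool) (L L' : List ℕ) :
    countOdd K B Z p (L ++ L') = countOdd K B Z p L + countOdd K B Z p L' := by
  simp [countOdd, oddScan_eq]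

theorem col_fst {K : ℕ → ℤ} {B : ℕ} {k : ℤ} {i : ℕ} (h : |k * K i| ≤ (B : ℤ)) :
    ((col K B k i).1 : ℤ) = B + k * K i ∧ ((col K B k i).2 : ℤ) = B - k * K i := by
  rw [abs_le] at h
  simp only [col, Int.toNat_of_nonneg (show (0 : ℤ) ≤ B + k * K i by omega),
    Int.toNat_of_nonneg (show (0 : ℤ) ≤ B - k * K i by omega), and_self]

theorem leaf_val (K : ℕ → ℤ) (B : ℕ) (g : ℕ → ℤ) : ∀ (l : List ℕ) (acc : ℕ),
    (∀ i ∈ l, |2 * K i| ≤ (B : ℤ) ∧ (g i = 2 ∨ g i = -2)) →
    (leaf acc (l.map (col K B 2)) (l.map fun i => decide (g i < 0)) : ℤ) =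
      acc + l.length * (B : ℤ) + (l.map fun i => g i * K i).sum
  | [], acc, _ => by simp [leaf]
  | a :: t, acc, h => by
    obtain ⟨hb, hg⟩ := h a List.mem_cons_self
    obtain ⟨h1, h2⟩ := col_fst hb
    simp only [List.map_cons, leaf, List.sum_cons, List.length_cons]
    rw [leaf_val K B g t _ fun i hi => h i (List.mem_cons_of_mem _ hi)]
    rcases hg with e | e <;> simp [e, h1, h2] <;> ring

theorem ncard_le {α : Type*} [DecidableEq α] (s : Set α) (l : List α) (h : ∀ a ∈ s, a ∈ l) :
    s.ncard ≤ l.length := by
  refine (Set.ncard_le_ncard (t := ↑l.toFinset) (fun a ha => by simpa using h a ha)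
    (Finset.finite_toSet _)).trans ?_
  rw [Set.ncard_coe_finset]
  exact l.toFinset_card_le

set_option maxHeartbeats 400000 in
/-- The vectors passing the test are at most as many as counted. -/
theorem ncard_short_le_aux (K : ℕ → ℤ) (B Z : ℕ) (hB : okB K B Z = true) (p : ℕ → Bool)
    (O : List (List ℕ)) (hO : O = octL) (M : List ℕ) (hM : M = codeL) :
    {x : GolayPt → ℤ | x ∈ leechLattice ∧ sqNorm x = 32 ∧
        p ((Z : ℤ) + lin K x).toNat = true}.ncard ≤
      countPair K Z p + countOct K B Z p O + countOdd K B Z p M := by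
  classical
  simp only [okB, Bool.and_eq_true, decide_eq_true_eq, List.all_eq_true, List.mem_range] at hB
  obtain ⟨hZ, hK⟩ := hB
  have hk : ∀ i < 24, ∀ k : ℤ, 0 ≤ k → k ≤ 4 → |k * K i| ≤ (B : ℤ) := fun i hi k h0 h4 => by
    rw [abs_mul, abs_of_nonneg h0]
    exact (mul_le_mul_of_nonneg_right h4 (abs_nonneg _)).trans (hK i hi)
  -- vectors by shape and code
  let mk : (ℕ → ℤ) → GolayPt → ℤ := fun g q => g (idx q)
  let vP : List ((ℕ → ℤ) × ℤ) := (List.range 24).flatMap fun i => (List.range i).flatMap fun j =>
    [(fun k => if k = i then 4 else if k = j then 4 else 0, 4 * K i + 4 * K j),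
     (fun k => if k = i then 4 else if k = j then -4 else 0, 4 * K i - 4 * K j),
     (fun k => if k = i then -4 else if k = j then 4 else 0, -(4 * K i) + 4 * K j),
     (fun k => if k = i then -4 else if k = j then -4 else 0, -(4 * K i) - 4 * K j)]
  let vec : List ℕ → List Bool → ℕ → ℤ := fun l s k =>
    if k ∈ l then (if s.getD (l.idxOf k) false then -2 else 2) else 0
  let vO : List ((ℕ → ℤ) × ℕ) := O.flatMap fun l =>
    (sigs (l.map (col K B 2)).length false).map fun s =>
      (vec l s, leaf (Z - 8 * B) (l.map (col K B 2)) s)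
  let l1 := (List.range 24).map (col K B 1)
  let l4 := (List.range 24).map (col K B 4)
  let vC : List ((ℕ → ℤ) × ℕ) := M.flatMap fun m => (List.range l4.length).map fun i =>
    (fun k => if k = i then (if m.testBit k then 3 else -3) else (if m.testBit k then -1 else 1),
      total m l1 0 (Z - 25 * B) + if m.testBit (0 + i) then (l4.getD i 0).1 else (l4.getD i 0).2)
  let R : List (GolayPt → ℤ) := (vP.filter fun a => p ((Z : ℤ) + a.2).toNat).map (fun a => mk a.1) ++
    ((vO.filter fun a => p a.2).map (fun a => mk a.1) ++ (vC.filter fun a => p a.2).map (fun a => mk a.1))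
  have hP : (vP.filter fun a => p ((Z : ℤ) + a.2).toNat).length = countPair K Z p := by
    have e : pairVals K = vP.map Prod.snd := by
      simp only [pairVals, vP, List.map_flatMap, List.map_cons, List.map_nil]
    rw [countPair, e, List.countP_map, ← List.countP_eq_length_filter]
    exact List.countP_congr fun a _ => Iff.rfl
  have hO' : (vO.filter fun a => p a.2).length = countOct K B Z p O := by
    rw [← List.countP_eq_length_filter]
    simp only [vO, countOct, octScan_eq, List.countP_flatMap, List.map_map, List.countP_map,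
      Function.comp_def]
  have hC' : (vC.filter fun a => p a.2).length = countOdd K B Z p M := by
    rw [← List.countP_eq_length_filter]
    simp only [vC, l1, l4, countOdd, oddScan_eq, List.countP_flatMap, List.map_map, List.countP_map,
      Function.comp_def, moves_eq, zero_add, List.length_map]
  have hlen : R.length = countPair K Z p + countOct K B Z p O + countOdd K B Z p M := by
    rw [← hP, ← hO', ← hC', add_assoc]
    simp only [R, List.length_append, List.length_map]
  refine hlen ▸ ncard_le _ R fun x hx => ?_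
  obtain ⟨hxl, hxn, hp⟩ := hx
  have hx' : x = mk fun i => x (ptOf i) := funext fun q => by simp [mk, Leech.ptOf_idx]
  have heq : ∀ g : ℕ → ℤ, (∀ k < 24, x (ptOf k) = g k) → mk g = x := fun g hg => funext fun q => by
    show g (idx q) = x q
    rw [← hg _ (Leech.idx_lt q), Leech.ptOf_idx]
  have hlin : ∀ S : Finset ℕ, S ⊆ range 24 → (∀ k < 24, k ∉ S → x (ptOf k) = 0) →
      lin K x = ∑ k ∈ S, x (ptOf k) * K k := fun S hS h0 => by
    refine (Finset.sum_subset hS fun k hk hkS => ?_).symm
    rw [h0 k (mem_range.1 hk) hkS, zero_mul]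
  simp only [R, List.mem_append, List.mem_map, List.mem_filter]
  rcases shape hxl hxn with ⟨i, j, hji, hi, gi, gj, g0⟩ | ⟨l, hl, hnd, hll, hg, hpar, g0⟩ |
      ⟨m, hm, i, hi, gi, g0⟩
  · left
    refine ⟨(fun k => if k = i then x (ptOf i) else if k = j then x (ptOf j) else 0, lin K x),
      ⟨?_, hp⟩, heq _ fun k hk => ?_⟩
    · have hlx : lin K x = x (ptOf i) * K i + x (ptOf j) * K j := by
        rw [hlin {i, j} (by simp [Finset.insert_subset_iff]; omega)
          (fun k hk h => g0 k hk (fun e => h (by simp [e])) (fun e => h (by simp [e]))),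
          Finset.sum_pair (by omega)]
      simp only [vP, List.mem_flatMap, List.mem_range]
      refine ⟨i, hi, j, hji, ?_⟩
      rw [hlx]
      dsimp only at gi gj
      rcases gi with a | a <;> rcases gj with b | b <;> rw [a, b] <;>
        simp [sub_eq_add_neg]
    · by_cases h1 : k = i
      · simp [h1]
      · by_cases h2 : k = j
        · simp [h2]; intro h; omega
        · simp [h1, h2, g0 k hk h1 h2]
  · right; left
    refine ⟨(vec l (l.map fun i => decide (x (ptOf i) < 0)),
      leaf (Z - 8 * B) (l.map (col K B 2)) (l.map fun i => decide (x (ptOf i) < 0))),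
      ⟨?_, ?_⟩, heq _ fun k hk => ?_⟩
    · simp only [vO, List.mem_flatMap, List.mem_map]
      refine ⟨l, hO ▸ hl, _, ?_, rfl⟩
      rw [List.length_map]
      simpa using mem_sigs _ false hpar
    · refine Eq.trans (congrArg p ?_) hp
      have h := leaf_val K B (fun i => x (ptOf i)) l (Z - 8 * B)
        fun i hi => ⟨hk i (hg i hi).1 2 (by norm_num) (by norm_num), (hg i hi).2⟩
      have hl2 : lin K x = (l.map fun i => x (ptOf i) * K i).sum := by
        rw [hlin l.toFinset (fun i hi => mem_range.2 (hg i (List.mem_toFinset.1 hi)).1)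
          (fun k hk h => g0 k hk fun e => h (List.mem_toFinset.2 e)), List.sum_toFinset _ hnd]
      rw [← hl2, hll] at h
      rw [show ((Z : ℤ) + lin K x) = ((leaf (Z - 8 * B) (l.map (col K B 2))
        (l.map fun i => decide (x (ptOf i) < 0)) : ℕ) : ℤ) by rw [h, Nat.cast_sub (by omega)]; push_cast; ring,
        Int.toNat_natCast]
    · by_cases hkl : k ∈ l
      · simp only [vec, if_pos hkl, List.getD_eq_getElem?_getD, List.getElem?_map,
          List.getElem?_eq_getElem (List.idxOf_lt_length_of_mem hkl), List.getElem_idxOf,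
          Option.map_some, Option.getD_some]
        rcases (hg k hkl).2 with e | e <;> simp [e]
      · simp [vec, hkl, g0 k hk hkl]
  · right; right
    have hl4 : l4.length = 24 := by simp [l4]
    refine ⟨(_, total m l1 0 (Z - 25 * B) +
      if m.testBit (0 + i) then (l4.getD i 0).1 else (l4.getD i 0).2), ⟨List.mem_flatMap.2 ⟨m, hM ▸ hm,
        List.mem_map.2 ⟨i, List.mem_range.2 (hl4.symm ▸ hi), rfl⟩⟩, ?_⟩, heq _ fun k hk => ?_⟩
    · refine Eq.trans (congrArg p ?_) hp
      have hgl : ∀ k : ℤ, ∀ j < 24, ((List.range 24).map (col K B k)).getD j 0 = col K B k j :=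
        fun k j hj => by simp [List.getD_eq_getElem?_getD, hj]
      have h1 : ((total m l1 0 (Z - 25 * B) : ℕ) : ℤ) = ((Z - 25 * B : ℕ) : ℤ) +
          ∑ j ∈ range 24, ((B : ℤ) + (if m.testBit j then -1 else 1) * K j) := by
        rw [total_eq, Nat.cast_add, Nat.cast_sum]
        simp only [l1, List.length_map, List.length_range, zero_add]
        congr 1
        refine Finset.sum_congr rfl fun j hj => ?_
        have hb := col_fst (hk j (mem_range.1 hj) 1 (by norm_num) (by norm_num))
        rw [hgl 1 j (mem_range.1 hj)]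
        split_ifs <;> simp [hb] <;> ring
      have h4 : (((if m.testBit (0 + i) then (l4.getD i 0).1 else (l4.getD i 0).2) : ℕ) : ℤ) =
          (B : ℤ) + (if m.testBit i then 4 else -4) * K i := by
        have hb := col_fst (hk i hi 4 (by norm_num) le_rfl)
        rw [zero_add, hgl 4 i hi]
        split_ifs <;> simp [hb] <;> ring
      have h5 : lin K x = ∑ j ∈ range 24, (if m.testBit j then (-1 : ℤ) else 1) * K j +
          (if m.testBit i then 4 else -4) * K i := by
        dsimp only at gi g0
        rw [lin, ← Finset.add_sum_erase _ _ (mem_range.2 hi),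
          ← Finset.add_sum_erase _ (fun j => (if m.testBit j then (-1 : ℤ) else 1) * K j) (mem_range.2 hi),
          Finset.sum_congr rfl fun j hj => by
            rw [g0 j (mem_range.1 (Finset.mem_of_mem_erase hj)) (Finset.ne_of_mem_erase hj)], gi]
        split_ifs <;> ring
      rw [show ((Z : ℤ) + lin K x) = ((total m l1 0 (Z - 25 * B) +
          (if m.testBit (0 + i) then (l4.getD i 0).1 else (l4.getD i 0).2) : ℕ) : ℤ) by
        rw [Nat.cast_add, h1, h4, h5, Finset.sum_add_distrib, Nat.cast_sub hZ]
        simp; ring, Int.toNat_natCast]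
    · by_cases h : k = i
      · subst h; simpa using gi
      · simpa [h] using g0 k hk h

/-- The bound over all the tables. -/
theorem ncard_short_le (K : ℕ → ℤ) (B Z : ℕ) (hB : okB K B Z = true) (p : ℕ → Bool) :
    {x : GolayPt → ℤ | x ∈ leechLattice ∧ sqNorm x = 32 ∧
        p ((Z : ℤ) + lin K x).toNat = true}.ncard ≤
      countPair K Z p + countOct K B Z p octL + countOdd K B Z p codeL :=
  ncard_short_le_aux K B Z hB p octL rfl codeL rfl

end Cfsg.Agent.CoOneUniq.Local
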