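import Cfsg.Agent.CoOneUniq.Local.Quad
import Cfsg.Agent.CoOneUniq.Local.L16Data

/-!
# The shortest vectors with largest scalar product with the standard one

The 4600 vectors of squared length 32 whose first two entries add up to four, as packed numbers.
-/

set_option autoImplicit false

open Cfsg Finset

namespace Cfsg.Agent.CoOneUniq.Local

open Cfsg.Agent.Leech (idx ptOf toL)

/-- A coordinate list as a packed number. -/
def code (l : List ℤ) : ℕ := npack (l.map fun a => (a + 8).toNat)

/-- A coordinate list from a packed number. -/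
def decV (c : ℕ) : List ℤ :=
  (List.range 24).map fun i => Int.ofNat (Nat.mod (Nat.shiftRight c (Nat.mul 16 i)) 65536) - 8

theorem decV_code {l : List ℤ} (hl : l.length = 24) (hb : ∀ a ∈ l, -8 ≤ a ∧ a ≤ 8) :
    decV (code l) = l := by
  refine List.ext_getElem (by simp [decV, hl]) fun i h1 h2 => ?_
  have hsplit : l.map (fun a => (a + 8).toNat) = (l.take i).map (fun a => (a + 8).toNat) ++
      [(l[i] + 8).toNat] ++ (l.drop (i + 1)).map fun a => (a + 8).toNat := by
    conv_lhs => rw [← List.take_append_drop i l, List.drop_eq_getElem_cons h2]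
    rw [List.map_append, List.map_cons]
    simp only [List.append_assoc, List.cons_append, List.nil_append]
  have hs := npack_seg_bits ((l.take i).map fun a => (a + 8).toNat) [(l[i] + 8).toNat]
    ((l.drop (i + 1)).map fun a => (a + 8).toNat) (by
      rw [← hsplit]
      simp only [List.mem_map]
      rintro _ ⟨a, ha, rfl⟩
      have := hb a ha
      simp only [base]; omega)
  rw [← hsplit, List.length_map, List.length_take, min_eq_left h2.le, List.length_singleton,
    mul_one] at hs
  simp only [decV, List.getElem_map, List.getElem_range]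
  show Int.ofNat (code l >>> (16 * i) % 65536) - 8 = l[i]
  rw [code, show (65536 : ℕ) = 2 ^ 16 from rfl, hs]
  simp only [npack, mul_zero, add_zero, Int.ofNat_eq_natCast]
  have := hb _ (List.getElem_mem h2)
  omega

/-- The vectors with an entry four, as lists. -/
def pairL16 : List (List ℤ) :=
  (List.range 22).flatMap fun j =>
    [(List.range 24).map fun k => if k = 0 then 4 else if k = j + 2 then 4 else 0,
     (List.range 24).map fun k => if k = 0 then 4 else if k = j + 2 then -4 else 0,
     (List.range 24).map fun k => if k = 1 then 4 else if k = j + 2 then 4 else 0,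
     (List.range 24).map fun k => if k = 1 then 4 else if k = j + 2 then -4 else 0]

/-- The vector of a sign pattern on an octad. -/
def octVec (l : List ℕ) (s : List Bool) : List ℤ :=
  (List.range 24).map fun k => if k ∈ l then (if s.getD (l.idxOf k) false then -2 else 2) else 0

/-- The octad vectors, as lists. -/
def octL16 : List (List ℤ) :=
  ((octL.filter fun l => decide (0 ∈ l) && decide (1 ∈ l)).flatMap fun l =>
    ((sigs 8 false).filter fun s => !s.getD (l.idxOf 0) false && !s.getD (l.idxOf 1) false).map
      fun s => octVec l s)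

/-- The odd vectors, as lists. -/
def oddL16 : List (List ℤ) :=
  (codeL.filter fun m => m.testBit 0 != m.testBit 1).map fun m =>
    (List.range 24).map fun k =>
      if k = (if m.testBit 0 then 0 else 1) then (if m.testBit k then 3 else -3)
      else (if m.testBit k then -1 else 1)

theorem pair_data : pairL16.map code = l16Pair := by decide +kernel

theorem oct_data : octL16.map code = l16Oct := by decide +kernel

theorem odd_data : oddL16.map code = l16Odd := by decide +kernel

theorem code_mem_l16 {x : GolayPt → ℤ} (hx : x ∈ leechLattice) (hn : sqNorm x = 32)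
    (h4 : x (ptOf 0) + x (ptOf 1) = 4) : code (toL x) ∈ l16 := by
  have hlist : ∀ f : ℕ → ℤ, (∀ k < 24, x (ptOf k) = f k) → toL x = (List.range 24).map f :=
    fun f hf => List.map_congr_left fun k hk => hf k (List.mem_range.1 hk)
  have key : toL x ∈ pairL16 ∨ toL x ∈ octL16 ∨ toL x ∈ oddL16 := by
    rcases shape hx hn with ⟨i, j, hji, hi, gi, gj, g0⟩ | ⟨l, hl, hnd, hll, hg, hpar, g0⟩ |
        ⟨m, hm, i, hi, gi, g0⟩
    · left
      dsimp only at gi gj g0
      obtain ⟨hj1, hi2, hj4⟩ : j ≤ 1 ∧ 2 ≤ i ∧ x (ptOf j) = 4 := by
        rcases (show j = 0 ∨ j = 1 ∨ 2 ≤ j by omega) with rfl | rfl | hj2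
        · rcases (show i = 1 ∨ 2 ≤ i by omega) with rfl | hi2
          · omega
          · rw [g0 1 (by norm_num) (by omega) (by omega)] at h4; omega
        · rw [g0 0 (by norm_num) (by omega) (by omega)] at h4; omega
        · rw [g0 0 (by norm_num) (by omega) (by omega), g0 1 (by norm_num) (by omega) (by omega)] at h4
          omega
      simp only [pairL16, List.mem_flatMap, List.mem_range]
      refine ⟨i - 2, by omega, ?_⟩
      rw [hlist (fun k => if k = j then 4 else if k = i - 2 + 2 then x (ptOf i) else 0) fun k hk => ?_]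
      · rcases (show j = 0 ∨ j = 1 by omega) with rfl | rfl <;> rcases gi with e | e <;> rw [e] <;>
          simp
      · rw [show i - 2 + 2 = i by omega]
        by_cases h1 : k = j
        · simp [h1, hj4]
        · by_cases h2 : k = i
          · subst h2; simp [h1]
          · simp [h1, h2, g0 k hk h2 h1]
    · right; left
      dsimp only at hg hpar g0
      have h01 : 0 ∈ l ∧ 1 ∈ l ∧ x (ptOf 0) = 2 ∧ x (ptOf 1) = 2 := by
        by_cases h0 : 0 ∈ l <;> by_cases h1 : 1 ∈ l
        · have := (hg 0 h0).2; have := (hg 1 h1).2
          exact ⟨h0, h1, by omega, by omega⟩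
        · have := (hg 0 h0).2; rw [g0 1 (by norm_num) h1] at h4; omega
        · have := (hg 1 h1).2; rw [g0 0 (by norm_num) h0] at h4; omega
        · rw [g0 0 (by norm_num) h0, g0 1 (by norm_num) h1] at h4; omega
      obtain ⟨h0, h1, e0, e1⟩ := h01
      set s := l.map fun i => decide (x (ptOf i) < 0) with hs
      have hget : ∀ k ∈ l, s.getD (l.idxOf k) false = decide (x (ptOf k) < 0) := fun k hk => by
        simp [hs, List.getD_eq_getElem?_getD, List.getElem?_map,
          List.getElem?_eq_getElem (List.idxOf_lt_length_of_mem hk)]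
      simp only [octL16, List.mem_flatMap, List.mem_map, List.mem_filter, Bool.and_eq_true,
        decide_eq_true_eq, Bool.not_eq_true']
      refine ⟨l, ⟨hl, h0, h1⟩, s, ⟨?_, ?_, ?_⟩, ?_⟩
      · have := mem_sigs s false hpar
        rwa [hs, List.length_map, hll] at this
      · rw [hget 0 h0, e0]; rfl
      · rw [hget 1 h1, e1]; rfl
      · refine (hlist _ fun k hk => ?_).symm
        by_cases hkl : k ∈ l
        · rw [if_pos hkl, hget k hkl]
          rcases (hg k hkl).2 with e | e <;> simp [e]
        · rw [if_neg hkl, g0 k hk hkl]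
    · right; right
      dsimp only at gi g0
      have hsel : m.testBit 0 ≠ m.testBit 1 ∧ i = if m.testBit 0 then 0 else 1 := by
        rcases (show i = 0 ∨ i = 1 ∨ 2 ≤ i by omega) with rfl | rfl | hi2
        · rw [gi, g0 1 (by norm_num) (by omega)] at h4
          cases h0 : m.testBit 0 <;> cases h1 : m.testBit 1 <;> simp [h0, h1] at h4 ⊢
        · rw [gi, g0 0 (by norm_num) (by omega)] at h4
          cases h0 : m.testBit 0 <;> cases h1 : m.testBit 1 <;> simp [h0, h1] at h4 ⊢
        · rw [g0 0 (by norm_num) (by omega), g0 1 (by norm_num) (by omega)] at h4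
          exfalso
          cases h0 : m.testBit 0 <;> cases h1 : m.testBit 1 <;> simp [h0, h1] at h4
      simp only [oddL16, List.mem_map, List.mem_filter, bne_iff_ne]
      refine ⟨m, ⟨hm, hsel.1⟩, (hlist _ fun k hk => ?_).symm⟩
      rw [← hsel.2]
      by_cases h : k = i
      · subst h; simp [gi]
      · simp [h, g0 k hk h]
  rw [l16, ← pair_data, ← oct_data, ← odd_data]
  simp only [List.mem_append, List.mem_map]
  rcases key with h | h | h
  exacts [Or.inl (Or.inl ⟨_, h, rfl⟩), Or.inl (Or.inr ⟨_, h, rfl⟩), Or.inr ⟨_, h, rfl⟩]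

end Cfsg.Agent.CoOneUniq.Local
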