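import Cfsg.Agent.Leech.CentOneCo

/-!
# Automorphisms of the lattice from matrices

A table holds eight times a matrix; checking it on a generating set of the lattice makes it an
element of the automorphism group.
-/

set_option autoImplicit false

open Cfsg Finset

namespace Cfsg.Agent.CoOneUniq.Local

open Cfsg.Agent.Leech (idx ptOf toL LGen bitWord rowMask spanList allMasks)

/-- The scalar product of lists. -/
def dotL : List ℤ → List ℤ → ℤ
  | a :: s, b :: t => a * b + dotL s t
  | _, _ => 0

/-- Eight times the image. -/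
def mapRaw (M : List (List ℤ)) (l : List ℤ) : List ℤ := M.map fun r => dotL r l

/-- The image. -/
def mapL (M : List (List ℤ)) (l : List ℤ) : List ℤ := M.map fun r => dotL r l / 8

/-- The mask of the word of odd half-values. -/
def halfMask (l : List ℤ) : ℕ :=
  (List.range 24).foldr
    (fun i m => if ((l.getD i 0 - l.headD 0) / 2) % 2 = 0 then m else m ^^^ 2 ^ i) 0

/-- The word determined by the twelve pivot positions. -/
def spanOf (m : ℕ) : ℕ :=
  (List.finRange 12).foldr (fun i a => if m.testBit i.val then rowMask i ^^^ a else a) 0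

/-- Membership in the lattice, for coordinate lists. -/
def memB (l : List ℤ) : Bool :=
  decide (l.length = 24) && (l.all fun a => decide ((a - l.headD 0) % 2 = 0)) &&
    decide ((l.sum - 4 * l.headD 0) % 8 = 0) && decide (spanOf (halfMask l) = halfMask l) &&
    ((List.range 24).all fun i =>
      (halfMask l).testBit i == decide (((l.getD i 0 - l.headD 0) / 2) % 2 ≠ 0))

/-- A table maps one coordinate list into the lattice. -/
def imgB (M : List (List ℤ)) (l : List ℤ) : Bool :=
  ((mapRaw M l).all fun a => decide (a % 8 = 0)) && memB (mapL M l)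

/-- The generating set used for the checks, as lists. -/
def genLists : List (List ℤ) :=
  ((List.range 24).map fun i => if i = 0 then (-3 : ℤ) else 1) ::
  (((List.range 23).map fun i => (List.range 24).map fun k =>
      (if k = i + 1 then (4 : ℤ) else 0) + if k = 0 then 4 else 0) ++
    ((List.range 23).map fun i => (List.range 24).map fun k =>
      (if k = i + 1 then (4 : ℤ) else 0) - if k = 0 then 4 else 0) ++
    (List.finRange 12).map fun i => (List.range 24).map fun k =>
      if (rowMask i).testBit k then (2 : ℤ) else 0)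

/-- The table of the transpose. -/
def trL (M : List (List ℤ)) : List (List ℤ) :=
  (List.range 24).map fun p => (List.range 24).map fun q => (M.getD q []).getD p 0

/-- A table of an automorphism of the lattice. -/
def matB (M : List (List ℤ)) : Bool :=
  decide (M.length = 24) && (M.all fun r => decide (r.length = 24)) &&
    (genLists.all fun l => imgB M l && imgB (trL M) l) &&
    (List.range 24).all fun i => (List.range 24).all fun j =>
      decide (dotL ((trL M).getD i []) ((trL M).getD j []) = if i = j then 64 else 0) &&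
        decide (dotL (M.getD i []) (M.getD j []) = if i = j then 64 else 0)

/-! ### correctness -/

theorem toL_length (x : GolayPt → ℤ) : (toL x).length = 24 := by simp [toL]

theorem sum_toL (x : GolayPt → ℤ) : (toL x).sum = ∑ p, x p := by
  have h : ∑ p, x p = ∑ i ∈ range 24, x (ptOf i) := by
    rw [Leech.univ_eq_range]
    exact sum_image fun a ha b hb e => by
      rw [← Leech.idx_ptOf a (mem_range.1 ha), ← Leech.idx_ptOf b (mem_range.1 hb), e]
  rw [h, toL, ← List.sum_toFinset _ List.nodup_range, List.toFinset_range]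

theorem dotL_sum : ∀ (s t : List ℤ), s.length = t.length →
    dotL s t = ∑ i ∈ range t.length, s.getD i 0 * t.getD i 0
  | [], [], _ => by simp [dotL]
  | a :: s, b :: t, h => by
    rw [dotL, dotL_sum s t (by simpa using h), List.length_cons, Finset.sum_range_succ']
    simp [add_comm]
  | [], _ :: _, h => by simp at h
  | _ :: _, [], h => by simp at h

theorem spanOf_mem (m : ℕ) : spanOf m ∈ allMasks := by
  rw [spanOf]
  generalize List.finRange 12 = l
  induction l with
  | nil => exact Leech.zero_mem_spanList _
  | cons i t ih =>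
    rw [List.foldr_cons]
    split_ifs
    · exact Leech.xor_mem_spanList (Leech.mem_spanList_of_mem (List.mem_ofFn.2 ⟨i, rfl⟩)) ih
    · exact ih

theorem bitWord_code {m : ℕ} (hm : m ∈ allMasks) : bitWord m ∈ golayCode := by
  have aux : ∀ l : List ℕ, (∀ a ∈ l, bitWord a ∈ golayCode) → ∀ a ∈ spanList l, bitWord a ∈ golayCode := by
    intro l
    induction l with
    | nil => intro _ a ha; simp [spanList] at ha; subst ha; rw [Leech.bitWord_zero]; exact zero_mem _
    | cons r t ih =>
      intro h a ha
      have ih' := ih fun b hb => h b (List.mem_cons_of_mem _ hb)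
      simp only [spanList, List.mem_append, List.mem_map] at ha
      rcases ha with ha | ⟨b, hb, rfl⟩
      · exact ih' a ha
      · rw [Leech.bitWord_xor]; exact add_mem (h r List.mem_cons_self) (ih' b hb)
  refine aux _ (fun a ha => ?_) m hm
  obtain ⟨i, rfl⟩ := List.mem_ofFn.1 ha
  exact Leech.row_mem i

/-- The point function of a list. -/
def ofL (l : List ℤ) : GolayPt → ℤ := fun p => l.getD (idx p) 0

theorem toL_ofL {l : List ℤ} (h : l.length = 24) : toL (ofL l) = l := by
  refine List.ext_getElem (by simp [toL, h]) fun i h1 h2 => ?_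
  have hi : i < 24 := h ▸ h2
  simp [toL, ofL, Leech.idx_ptOf i hi, h2, List.getD_eq_getElem?_getD]

theorem ofL_toL (x : GolayPt → ℤ) : ofL (toL x) = x := funext fun p => by
  rw [ofL, Leech.toL_getD _ _ (Leech.idx_lt p), Leech.ptOf_idx]

theorem memB_mem {l : List ℤ} (h : memB l = true) : ofL l ∈ leechLattice := by
  simp only [memB, Bool.and_eq_true, decide_eq_true_eq, List.all_eq_true, beq_iff_eq,
    List.mem_range] at h
  obtain ⟨⟨⟨⟨hlen, hpar⟩, hsum⟩, hspan⟩, hbit⟩ := h
  have hget : ∀ p, ofL l p ∈ l := fun p => by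
    have := Leech.idx_lt p
    simp [ofL, List.getD_eq_getElem?_getD, hlen, this]
  refine Leech.mem_lattice_iff.2 ⟨l.headD 0, fun p => (ofL l p - l.headD 0) / 2, fun p => ?_, ?_, ?_⟩
  · show ofL l p = _ + 2 * ((ofL l p - l.headD 0) / 2)
    have := hpar _ (hget p); omega
  · rw [← sum_toL, toL_ofL hlen]; omega
  · have e : Leech.red2 (fun p => (ofL l p - l.headD 0) / 2) = bitWord (halfMask l) := by
      funext p
      simp only [bitWord, hbit _ (Leech.idx_lt p), Leech.red2, ofL, decide_eq_true_eq]
      rcases Int.emod_two_eq_zero_or_one ((l.getD (idx p) 0 - l.headD 0) / 2) with e | e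
      · rw [if_neg (by omega)]
        exact (ZMod.intCast_zmod_eq_zero_iff_dvd _ 2).2 (by push_cast; omega)
      · rw [if_pos (by omega), ← Int.cast_one, ZMod.intCast_eq_intCast_iff_dvd_sub]
        push_cast; omega
    rw [e, ← hspan]
    exact bitWord_code (spanOf_mem _)

variable {M : List (List ℤ)}

/-- The entries of a table. -/
def ent (M : List (List ℤ)) (i j : ℕ) : ℤ := (M.getD i []).getD j 0

theorem ent_trL {i j : ℕ} (hi : i < 24) (hj : j < 24) : ent (trL M) i j = ent M j i := by
  simp [ent, trL, List.getD_eq_getElem?_getD, hi, hj]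

theorem trL_shape : (trL M).length = 24 ∧ ∀ r ∈ trL M, r.length = 24 := by
  refine ⟨by simp [trL], fun r hr => ?_⟩
  simp only [trL, List.mem_map] at hr
  obtain ⟨p, -, rfl⟩ := hr
  simp

/-- Eight times the image, as a function. -/
def raw (M : List (List ℤ)) (x : GolayPt → ℤ) : GolayPt → ℤ :=
  fun q => ∑ j ∈ range 24, ent M (idx q) j * x (ptOf j)

theorem raw_add (x y : GolayPt → ℤ) : raw M (x + y) = raw M x + raw M y := by
  funext q; simp [raw, mul_add, Finset.sum_add_distrib]

theorem raw_smul (c : ℤ) (x : GolayPt → ℤ) : raw M (c • x) = c • raw M x := by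
  funext q
  simp only [raw, Pi.smul_apply, smul_eq_mul, Finset.mul_sum]
  exact Finset.sum_congr rfl fun j _ => by ring

theorem toL_raw (hl : M.length = 24) (hr : ∀ r ∈ M, r.length = 24) (x : GolayPt → ℤ) :
    toL (raw M x) = mapRaw M (toL x) := by
  refine List.ext_getElem (by simp [toL, mapRaw, hl]) fun i h1 h2 => ?_
  have hi : i < 24 := by simpa [toL] using h1
  have hi' : i < M.length := hl ▸ hi
  simp only [mapRaw, List.getElem_map]
  rw [dotL_sum _ _ (by rw [toL_length]; exact hr _ (List.getElem_mem hi')), toL_length]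
  simp only [toL, List.getElem_map, List.getElem_range, raw, ent, Leech.idx_ptOf i hi]
  refine Finset.sum_congr rfl fun j hj => ?_
  rw [show M.getD i [] = M[i] by simp [List.getD_eq_getElem?_getD, hi']]
  simp [List.getD_eq_getElem?_getD, Finset.mem_range.1 hj]

/-- The vectors with image in the lattice. -/
def good (M : List (List ℤ)) : AddSubgroup (GolayPt → ℤ) where
  carrier := {x | ∃ y ∈ leechLattice, ∀ q, raw M x q = 8 * y q}
  zero_mem' := ⟨0, zero_mem _, fun q => by simp [raw]⟩
  add_mem' := by
    rintro a b ⟨y, hy, ha⟩ ⟨z, hz, hb⟩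
    exact ⟨y + z, add_mem hy hz, fun q => by rw [raw_add, Pi.add_apply, ha, hb, Pi.add_apply]; ring⟩
  neg_mem' := by
    rintro a ⟨y, hy, ha⟩
    refine ⟨-y, neg_mem hy, fun q => ?_⟩
    rw [show (-a) = (-1 : ℤ) • a by simp, raw_smul, Pi.smul_apply, ha, Pi.neg_apply, smul_eq_mul]
    ring

theorem imgB_good (hl : M.length = 24) (hr : ∀ r ∈ M, r.length = 24) {x : GolayPt → ℤ} {l : List ℤ}
    (hx : toL x = l) (h : imgB M l = true) : x ∈ good M := by
  subst hx
  simp only [imgB, Bool.and_eq_true, List.all_eq_true, decide_eq_true_eq] at h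
  refine ⟨ofL (mapL M (toL x)), memB_mem h.2, fun q => ?_⟩
  have e : mapL M (toL x) = (mapRaw M (toL x)).map (· / 8) := by simp [mapL, mapRaw]
  rw [e, ← toL_raw hl hr]
  have hq := Leech.idx_lt q
  have h1 : raw M x q ∈ toL (raw M x) :=
    List.mem_map.2 ⟨idx q, List.mem_range.2 hq, by rw [Leech.ptOf_idx]⟩
  have := h.1 _ (toL_raw hl hr x ▸ h1)
  simp only [ofL, toL, List.map_map, List.getD_eq_getElem?_getD, List.getElem?_map, List.getElem?_range hq,
    Option.map_some, Option.getD_some, Function.comp_apply, Leech.ptOf_idx]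
  omega

theorem good_le (hl : M.length = 24) (hr : ∀ r ∈ M, r.length = 24)
    (hg : ∀ l ∈ genLists, imgB M l = true) : leechLattice ≤ good M := by
  refine Leech.lattice_le _ (imgB_good hl hr ?_ (hg _ List.mem_cons_self)) (fun i hi => ?_)
    (Set.range Leech.row) (Leech.golayCode_eq_span.le)
    (by rintro _ ⟨i, rfl⟩; exact Leech.row_mem i) ?_
  · refine List.map_congr_left fun a ha => ?_
    have : ∀ a < 24, Leech.vecOdd (ptOf a) = if a = 0 then -3 else 1 := by decide +kernel
    exact this a (List.mem_range.1 ha)
  · obtain ⟨x, rfl⟩ := Option.ne_none_iff_exists'.1 hi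
    have hx : x.val < 23 := ZMod.val_lt x
    have e : ∀ a < 24, (ptOf a = some x ↔ a = x.val + 1) ∧ (ptOf a = none ↔ a = 0) := fun a ha => by
      constructor <;> constructor <;> intro h
      · rw [← Leech.idx_ptOf a ha, h]; rfl
      · rw [h]; exact Leech.ptOf_idx (some x)
      · rw [← Leech.idx_ptOf a ha, h]; rfl
      · rw [h]; rfl
    constructor
    · refine imgB_good hl hr ?_ (hg _ (List.mem_cons_of_mem _ (List.mem_append_left _
        (List.mem_append_left _ (List.mem_map.2 ⟨x.val, List.mem_range.2 hx, rfl⟩)))))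
      refine List.map_congr_left fun a ha => ?_
      obtain ⟨h1, h2⟩ := e a (List.mem_range.1 ha)
      simp only [Pi.add_apply, Pi.single_apply, h1, h2]
    · refine imgB_good hl hr ?_ (hg _ (List.mem_cons_of_mem _ (List.mem_append_left _
        (List.mem_append_right _ (List.mem_map.2 ⟨x.val, List.mem_range.2 hx, rfl⟩)))))
      refine List.map_congr_left fun a ha => ?_
      obtain ⟨h1, h2⟩ := e a (List.mem_range.1 ha)
      simp only [Pi.sub_apply, Pi.single_apply, h1, h2]
  · rintro _ ⟨i, rfl⟩
    refine imgB_good hl hr ?_ (hg _ (List.mem_cons_of_mem _ (List.mem_append_right _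
      (List.mem_map.2 ⟨i, List.mem_finRange i, rfl⟩))))
    refine List.map_congr_left fun a ha => ?_
    simp only [Leech.valVec, Leech.row, bitWord, Leech.idx_ptOf a (List.mem_range.1 ha)]
    split_ifs <;> rfl

/-- The image under a table. -/
def app (M : List (List ℤ)) (x : GolayPt → ℤ) : GolayPt → ℤ := fun q => raw M x q / 8

/-- What a passed check says. -/
structure Ok (M : List (List ℤ)) : Prop where
  len : M.length = 24
  rows : ∀ r ∈ M, r.length = 24
  le : leechLattice ≤ good M
  le' : leechLattice ≤ good (trL M)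
  left : ∀ i < 24, ∀ j < 24, ∑ k ∈ range 24, ent (trL M) i k * ent M k j = if i = j then 64 else 0
  right : ∀ i < 24, ∀ j < 24, ∑ k ∈ range 24, ent M i k * ent (trL M) k j = if i = j then 64 else 0

theorem ok_of_matB (h : matB M = true) : Ok M := by
  simp only [matB, Bool.and_eq_true, decide_eq_true_eq, List.all_eq_true, List.mem_range] at h
  obtain ⟨⟨⟨hl, hr⟩, hg⟩, ho⟩ := h
  obtain ⟨hl', hr'⟩ := trL_shape (M := M)
  refine ⟨hl, hr, good_le hl hr fun l hll => (hg l hll).1, good_le hl' hr' fun l hll => (hg l hll).2,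
    fun i hi j hj => ?_, fun i hi j hj => ?_⟩
  · have hm : ∀ k, k < 24 → ((trL M).getD k []).length = 24 := fun k hk => by
      rw [List.getD_eq_getElem?_getD, List.getElem?_eq_getElem (hl'.symm ▸ hk)]
      exact hr' _ (List.getElem_mem _)
    rw [← (ho i hi j hj).1, dotL_sum _ _ ((hm i hi).trans (hm j hj).symm), hm j hj]
    exact Finset.sum_congr rfl fun k hk => by rw [← ent_trL hj (mem_range.1 hk)]; rfl
  · have hm : ∀ k, k < 24 → (M.getD k []).length = 24 := fun k hk => by
      rw [List.getD_eq_getElem?_getD, List.getElem?_eq_getElem (hl.symm ▸ hk)]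
      exact hr _ (List.getElem_mem _)
    rw [← (ho i hi j hj).2, dotL_sum _ _ ((hm i hi).trans (hm j hj).symm), hm j hj]
    exact Finset.sum_congr rfl fun k hk => by rw [ent_trL (mem_range.1 hk) hj]; rfl

theorem raw_raw {A B : List (List ℤ)}
    (h : ∀ i < 24, ∀ j < 24, ∑ k ∈ range 24, ent A i k * ent B k j = if i = j then 64 else 0)
    (x : GolayPt → ℤ) (q : GolayPt) : raw A (raw B x) q = 64 * x q := by
  simp only [raw]
  rw [Finset.sum_congr rfl fun k hk => by
    rw [Leech.idx_ptOf k (mem_range.1 hk), Finset.mul_sum], Finset.sum_comm,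
    Finset.sum_congr rfl fun j hj => by
      rw [Finset.sum_congr rfl fun k _ => by rw [← mul_assoc], ← Finset.sum_mul,
        h _ (Leech.idx_lt q) j (mem_range.1 hj)]]
  rw [Finset.sum_eq_single (idx q) (fun b _ hb => by rw [if_neg hb.symm, zero_mul])
    (fun hh => absurd (mem_range.2 (Leech.idx_lt q)) hh), if_pos rfl, Leech.ptOf_idx]

theorem app_spec (h : leechLattice ≤ good M) {x : GolayPt → ℤ} (hx : x ∈ leechLattice) :
    app M x ∈ leechLattice ∧ raw M x = (8 : ℤ) • app M x := by
  obtain ⟨y, hy, he⟩ := h hx
  have e : app M x = y := funext fun q => by simp [app, he]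
  exact ⟨e ▸ hy, funext fun q => by simp [e, he]⟩

theorem app_app {A B : List (List ℤ)} (hA : leechLattice ≤ good A) (hB : leechLattice ≤ good B)
    (h : ∀ i < 24, ∀ j < 24, ∑ k ∈ range 24, ent A i k * ent B k j = if i = j then 64 else 0)
    {x : GolayPt → ℤ} (hx : x ∈ leechLattice) : app A (app B x) = x := by
  obtain ⟨h1, h2⟩ := app_spec hB hx
  obtain ⟨-, h4⟩ := app_spec hA h1
  funext q
  have := raw_raw h x q
  rw [h2, raw_smul, h4] at this
  simp only [Pi.smul_apply, smul_eq_mul] at this
  linarith

/-- The permutation of the lattice. -/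
def permOf (h : Ok M) : Equiv.Perm leechLattice where
  toFun x := ⟨app M x.1, (app_spec h.le x.2).1⟩
  invFun x := ⟨app (trL M) x.1, (app_spec h.le' x.2).1⟩
  left_inv x := Subtype.ext (app_app h.le' h.le h.left x.2)
  right_inv x := Subtype.ext (app_app h.le h.le' h.right x.2)

theorem sqNorm_raw (h : Ok M) (x : GolayPt → ℤ) : sqNorm (raw M x) = 64 * sqNorm x := by
  have key : ∀ q, raw (trL M) (raw M x) q = 64 * x q := raw_raw h.left x
  have hs : ∀ f : GolayPt → ℤ, ∑ p, f p = ∑ i ∈ range 24, f (ptOf i) := fun f => by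
    rw [Leech.univ_eq_range]
    exact sum_image fun a ha b hb e => by
      rw [← Leech.idx_ptOf a (mem_range.1 ha), ← Leech.idx_ptOf b (mem_range.1 hb), e]
  rw [sqNorm, sqNorm, hs, hs, Finset.mul_sum]
  calc ∑ i ∈ range 24, raw M x (ptOf i) ^ 2
      = ∑ i ∈ range 24, ∑ j ∈ range 24, ent (trL M) j i * raw M x (ptOf i) * x (ptOf j) := by
        refine Finset.sum_congr rfl fun i hi => ?_
        rw [sq]
        conv_lhs => arg 2; rw [raw]
        rw [Finset.mul_sum]
        refine Finset.sum_congr rfl fun j hj => ?_
        rw [Leech.idx_ptOf i (mem_range.1 hi), ent_trL (mem_range.1 hj) (mem_range.1 hi)]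
        ring
    _ = ∑ j ∈ range 24, 64 * x (ptOf j) ^ 2 := by
        rw [Finset.sum_comm]
        refine Finset.sum_congr rfl fun j hj => ?_
        rw [← Finset.sum_mul]
        have := key (ptOf j)
        rw [raw, Leech.idx_ptOf j (mem_range.1 hj)] at this
        rw [this]; ring

theorem permOf_mem (h : Ok M) : permOf h ∈ Co0 := by
  refine ⟨fun v w => Subtype.ext (funext fun q => ?_), fun v => ?_⟩
  · show raw M (v.1 + w.1) q / 8 = app M v.1 q + app M w.1 q
    obtain ⟨-, h1⟩ := app_spec h.le v.2
    obtain ⟨-, h2⟩ := app_spec h.le w.2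
    rw [raw_add, Pi.add_apply, congrFun h1 q, congrFun h2 q]
    simp only [Pi.smul_apply, smul_eq_mul]
    omega
  · show sqNorm (app M v.1) = sqNorm v.1
    have := sqNorm_raw h v.1
    rw [(app_spec h.le v.2).2] at this
    simp only [sqNorm, Pi.smul_apply, smul_eq_mul, mul_pow, ← Finset.mul_sum] at this ⊢
    omega

/-- The element with its action on lists. -/
def matGen (M : List (List ℤ)) (h : matB M = true) : LGen where
  g := ⟨permOf (ok_of_matB h), permOf_mem _⟩
  f := mapL M
  spec v := by
    have hM := ok_of_matB h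
    show toL (app M v.1) = mapL M (toL v.1)
    rw [show mapL M (toL v.1) = (mapRaw M (toL v.1)).map (· / 8) by simp [mapL, mapRaw],
      ← toL_raw hM.len hM.rows, toL, toL, List.map_map]
    rfl

/-! ### comparing products -/

/-- The coordinate lists of eight times the unit vectors. -/
def octList (i : ℕ) : List ℤ := (List.range 24).map fun k => if k = i then 8 else 0

/-- Two actions agree on the unit vectors. -/
def sameB (f g : List ℤ → List ℤ) : Bool :=
  (List.range 24).all fun i => decide (f (octList i) = g (octList i))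

theorem toL_oct (i : GolayPt) : toL (Leech.oct i : GolayPt → ℤ) = octList (idx i) := by
  refine List.map_congr_left fun a ha => ?_
  have hiff : ptOf a = i ↔ a = idx i :=
    ⟨fun h => by rw [← h, Leech.idx_ptOf a (List.mem_range.1 ha)], fun h => by rw [h, Leech.ptOf_idx]⟩
  simp only [Leech.oct, Pi.single_apply, hiff]

theorem eq_of_sameB {a b : LGen} (h : sameB a.f b.f = true) : a.g = b.g := by
  simp only [sameB, List.all_eq_true, decide_eq_true_eq, List.mem_range] at h
  refine Leech.ext_of_oct fun i => Subtype.ext (Leech.toL_injective ?_)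
  rw [a.spec, b.spec, toL_oct]
  exact h _ (Leech.idx_lt i)

/-- The identity. -/
def oneGen : LGen where
  g := 1
  f := id
  spec v := by rw [one_smul]; rfl

/-- The central involution. -/
def negGen : LGen where
  g := Leech.zneg
  f := fun l => l.map fun a => -a
  spec v := by rw [Leech.zneg_smul]; simp [toL]

/-- An element is trivial in the quotient. -/
def pmB (f : List ℤ → List ℤ) : Bool := sameB f oneGen.f || sameB f negGen.f

theorem toCo_of_pmB {a : LGen} (h : pmB a.f = true) : Leech.CentOne.toCo a.g = 1 := by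
  rw [pmB, Bool.or_eq_true] at h
  rw [Leech.CentOne.toCo_one_iff]
  exact h.imp eq_of_sameB eq_of_sameB

end Cfsg.Agent.CoOneUniq.Local
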