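import Cfsg.Agent.CoOneUniq.Local.Enum
import Cfsg.Agent.CoOneUniq.Local.Mat

/-!
# Counting shortest vectors by their scalar products with their images

The coordinates of a vector, of some images and the coordinate sums are packed into one number,
whose digits in a product give the scalar products.
-/

set_option autoImplicit false

open Cfsg Finset

namespace Cfsg.Agent.CoOneUniq.Local

open Cfsg.Agent.Leech (idx ptOf toL)

/-! ### packed numbers -/

/-- The base of the digits. -/
def base : ℕ := 65536

theorem base_pos : 0 < base := by decide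

theorem base_pow (n : ℕ) : base ^ n = 2 ^ (16 * n) := by
  rw [pow_mul]; rfl

/-- Digits in the base. -/
def pack : List ℤ → ℤ
  | [] => 0
  | a :: t => a + (base : ℤ) * pack t

/-- Natural digits in the base. -/
def npack : List ℕ → ℕ
  | [] => 0
  | a :: t => a + base * npack t

theorem pack_append (l l' : List ℤ) : pack (l ++ l') = pack l + (base : ℤ) ^ l.length * pack l' := by
  induction l with
  | nil => simp [pack]
  | cons a t ih => simp only [List.cons_append, pack, ih, List.length_cons]; ring

theorem npack_append (l l' : List ℕ) : npack (l ++ l') = npack l + base ^ l.length * npack l' := by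
  induction l with
  | nil => simp [npack]
  | cons a t ih => simp only [List.cons_append, npack, ih, List.length_cons]; ring

theorem npack_lt : ∀ l : List ℕ, (∀ a ∈ l, a < base) → npack l < base ^ l.length
  | [], _ => by simp [npack]
  | a :: t, h => by
    have h1 := npack_lt t fun b hb => h b (List.mem_cons_of_mem _ hb)
    have h2 := h a List.mem_cons_self
    rw [npack, List.length_cons, pow_succ]
    have h3 : base * (npack t + 1) ≤ base * base ^ t.length := Nat.mul_le_mul_left base h1
    rw [Nat.mul_add, mul_one] at h3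
    rw [Nat.mul_comm (base ^ _)]
    omega

theorem npack_seg (l₁ l₂ l₃ : List ℕ) (h : ∀ a ∈ l₁ ++ l₂ ++ l₃, a < base) :
    npack (l₁ ++ l₂ ++ l₃) / base ^ l₁.length % base ^ l₂.length = npack l₂ := by
  rw [List.append_assoc, npack_append, npack_append]
  have h1 := npack_lt l₁ fun a ha => h a (by simp [ha])
  have h2 := npack_lt l₂ fun a ha => h a (by simp [ha])
  rw [Nat.add_mul_div_left _ _ (pow_pos base_pos _), Nat.div_eq_of_lt h1, zero_add,
    Nat.add_mul_mod_self_left, Nat.mod_eq_of_lt h2]

theorem pack_cast : ∀ l : List ℕ, pack (l.map fun a : ℕ => (a : ℤ)) = (npack l : ℤ)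
  | [] => rfl
  | a :: t => by simp [pack, npack, pack_cast t]

theorem npack_sum : ∀ l : List ℕ, npack l = ∑ k ∈ range l.length, l.getD k 0 * base ^ k
  | [] => by simp [npack]
  | a :: t => by
    rw [npack, npack_sum t, List.length_cons, Finset.sum_range_succ', Finset.mul_sum]
    simp only [List.getD_cons_succ, List.getD_cons_zero, pow_zero, mul_one]
    rw [add_comm]
    congr 1
    exact Finset.sum_congr rfl fun k _ => by ring

/-- A product of two sums of digits, collected by the exponent. -/
theorem conv_digits (f g : ℕ → ℕ) (B L : ℕ) (hL : 0 < L) :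
    (∑ i ∈ range L, f i * B ^ i) * (∑ j ∈ range L, g j * B ^ j) =
      ∑ k ∈ range (2 * L - 1), (∑ i ∈ range L, if i ≤ k ∧ k - i < L then f i * g (k - i) else 0) * B ^ k := by
  rw [Finset.sum_mul_sum]
  simp only [Finset.sum_mul]
  rw [Finset.sum_comm (s := range (2 * L - 1))]
  refine Finset.sum_congr rfl fun i hi => ?_
  simp only [ite_mul, zero_mul]
  rw [← Finset.sum_filter]
  refine Finset.sum_nbij' (fun j => i + j) (fun k => k - i) ?_ ?_ ?_ ?_ ?_
  · intro j hj; simp only [mem_filter, mem_range] at hj hi ⊢; omega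
  · intro k hk; simp only [mem_filter, mem_range] at hk ⊢; omega
  · intro j _; show i + j - i = j; omega
  · intro k hk; simp only [mem_filter, mem_range] at hk; show i + (k - i) = k; omega
  · intro j _; rw [Nat.add_sub_cancel_left, pow_add]; ring

/-- The middle digit of a product, in any length. -/
theorem prod_digit_gen (m : ℕ) (a b : List ℕ) (ha : a.length = m + 1) (hb : b.length = m + 1)
    (A B : ℕ) (hA : ∀ x ∈ a, x ≤ A) (hB : ∀ x ∈ b, x ≤ B) (hAB : (m + 1) * (A * B) < base) :
    npack a * npack b / base ^ m % base =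
      ∑ i ∈ range (m + 1), a.getD i 0 * b.getD (m - i) 0 := by
  set c : ℕ → ℕ := fun k => ∑ i ∈ range (m + 1),
    if i ≤ k ∧ k - i < m + 1 then a.getD i 0 * b.getD (k - i) 0 else 0 with hc
  have hval : npack a * npack b = ∑ k ∈ range (2 * (m + 1) - 1), c k * base ^ k := by
    rw [npack_sum a, npack_sum b, ha, hb, conv_digits _ _ _ _ (Nat.succ_pos m)]
  have hget : ∀ (l : List ℕ) (C i : ℕ), (∀ x ∈ l, x ≤ C) → l.getD i 0 ≤ C := fun l C i h => by
    by_cases hi : i < l.length
    · rw [List.getD_eq_getElem?_getD, List.getElem?_eq_getElem hi]; exact h _ (List.getElem_mem _)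
    · simp [List.getD_eq_getElem?_getD, List.getElem?_eq_none (not_lt.1 hi)]
  have hck : ∀ k, c k < base := fun k => by
    refine lt_of_le_of_lt ((Finset.sum_le_card_nsmul _ _ (A * B) fun i _ => ?_).trans_eq ?_) hAB
    · split_ifs
      · exact Nat.mul_le_mul (hget a A i hA) (hget b B _ hB)
      · exact Nat.zero_le _
    · rw [card_range, smul_eq_mul]
  have hl : ∑ k ∈ range (2 * (m + 1) - 1), c k * base ^ k =
      npack ((List.range m).map c ++ [c m] ++ ((List.range m).map fun k => c (m + 1 + k))) := by
    have e : (List.range m).map c ++ [c m] ++ ((List.range m).map fun k => c (m + 1 + k)) =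
        (List.range (m + 1 + m)).map c := by
      rw [List.range_add (n := m + 1), List.range_succ, List.map_append, List.map_append, List.map_map]
      rfl
    rw [e, npack_sum, List.length_map, List.length_range, show 2 * (m + 1) - 1 = m + 1 + m by omega]
    exact Finset.sum_congr rfl fun k hk => by
      simp [List.getD_eq_getElem?_getD, Finset.mem_range.1 hk]
  have h := npack_seg ((List.range m).map c) [c m] ((List.range m).map fun k => c (m + 1 + k))
    (fun x hx => by
      simp only [List.mem_append, List.mem_map, List.mem_singleton] at hx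
      rcases hx with (⟨k, -, rfl⟩ | rfl) | ⟨k, -, rfl⟩ <;> exact hck _)
  rw [← hl, ← hval, List.length_map, List.length_range, List.length_singleton, pow_one] at h
  rw [h]
  simp only [npack, mul_zero, add_zero, hc]
  exact Finset.sum_congr rfl fun i hi => if_pos (by simp only [mem_range] at hi; omega)

/-- The middle digit of a product. -/
theorem prod_digit (a b : List ℕ) (ha : a.length = 24) (hb : b.length = 24) (A B : ℕ)
    (hA : ∀ x ∈ a, x ≤ A) (hB : ∀ x ∈ b, x ≤ B) (hAB : 24 * (A * B) < base) :
    npack a * npack b / base ^ 23 % base = ∑ i ∈ range 24, a.getD i 0 * b.getD (23 - i) 0 :=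
  prod_digit_gen 23 a b ha hb A B hA hB hAB

/-- The middle digit of a product, by primitives. -/
def dig (a b : ℕ) : ℕ := Nat.mod (Nat.shiftRight (Nat.mul a b) 368) 65536

theorem dig_eq (a b : ℕ) : dig a b = a * b / base ^ 23 % base := by
  show (a * b) >>> 368 % 65536 = _
  rw [Nat.shiftRight_eq_div_pow, base_pow]
  rfl

theorem npack_seg_bits (l₁ l₂ l₃ : List ℕ) (h : ∀ a ∈ l₁ ++ l₂ ++ l₃, a < base) :
    npack (l₁ ++ l₂ ++ l₃) >>> (16 * l₁.length) % 2 ^ (16 * l₂.length) = npack l₂ := by
  rw [Nat.shiftRight_eq_div_pow, ← base_pow, ← base_pow, npack_seg l₁ l₂ l₃ h]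

/-! ### the test -/

/-- The fields: coefficients and offset. -/
def fields (Ms : List (List (List ℤ))) : List ((ℕ → ℤ) × ℤ) :=
  ((List.range 24).map fun k => ((fun i => if i = k then 1 else 0), 8)) ++
  (Ms.flatMap fun M => (List.range 24).map fun k => ((fun i => ent M (23 - k) i), 64)) ++
  ((fun _ => 1), 1024) ::
  Ms.map fun M => ((fun i => ∑ q ∈ range 24, ent M q i), 8192)

/-- The coefficient of a coordinate. -/
def coef (Ms : List (List (List ℤ))) (i : ℕ) : ℤ := pack ((fields Ms).map fun F => F.1 i)

/-- The offset. -/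
def offs (Ms : List (List (List ℤ))) : ℕ := (pack ((fields Ms).map fun F => F.2)).toNat

/-- The modulus of a packed vector. -/
def W384 : ℕ := 2 ^ 384

/-- The test of one scalar product: `m` images are packed, this is number `k`, the target is
shifted into `c`. -/
def chk (m k c n : ℕ) : Bool :=
  Nat.beq
    (Nat.add (dig (Nat.mod n W384)
      (Nat.mod (Nat.shiftRight n (Nat.mul 384 (Nat.add k 1))) W384)) 131072)
    (Nat.add (Nat.add
      (Nat.mul 64 (Nat.mod (Nat.shiftRight n (Nat.mul 384 (Nat.add m 1))) 65536))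
      (Nat.mul 8 (Nat.mod (Nat.shiftRight n (Nat.add (Nat.mul 384 (Nat.add m 1))
        (Nat.mul 16 (Nat.add k 1)))) 65536))) c)

theorem coord_bound {x : GolayPt → ℤ} {n b : ℤ} (hn : sqNorm x ≤ n) (hb : n < (b + 1) ^ 2)
    (h0 : 0 ≤ b) (p : GolayPt) : -b ≤ x p ∧ x p ≤ b := by
  have h := (Leech.sq_le_sqNorm x p).trans hn
  constructor <;> nlinarith

theorem lin_pack (K : ℕ → ℤ) : ∀ (F : List ((ℕ → ℤ) × ℤ)) (x : GolayPt → ℤ),
    (∀ i < 24, K i = pack (F.map fun G => G.1 i)) →
    pack (F.map fun G => G.2) + lin K x = pack (F.map fun G => lin G.1 x + G.2)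
  | F, x, hK => by
    have key : ∀ F : List ((ℕ → ℤ) × ℤ), pack (F.map fun G => G.2) +
        lin (fun i => pack (F.map fun G => G.1 i)) x = pack (F.map fun G => lin G.1 x + G.2) := by
      intro F
      induction F with
      | nil => simp [pack, lin]
      | cons G t ih =>
        simp only [List.map_cons, pack]
        rw [← ih]
        simp only [lin, mul_add, Finset.sum_add_distrib, Finset.mul_sum, mul_left_comm (x _)]
        ring
    rw [← key]
    congr 1
    exact Finset.sum_congr rfl fun i hi => by rw [hK i (mem_range.1 hi)]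

/-- The packed number of a vector. -/
theorem packed_value (Ms : List (List (List ℤ))) (hM : ∀ M ∈ Ms, Ok M) (K : ℕ → ℤ)
    (hK : ∀ i < 24, K i = coef Ms i) {x : GolayPt → ℤ} (hn : sqNorm x = 32) :
    ∃ (xs : List ℕ) (ys : List (List ℕ)) (sx : ℕ) (sy : List ℕ),
      xs = (List.range 24).map (fun i => (x (ptOf i) + 8).toNat) ∧
      ys = Ms.map (fun M => (List.range 24).map fun k => (raw M x (ptOf (23 - k)) + 64).toNat) ∧
      (sx : ℤ) = ∑ i ∈ range 24, x (ptOf i) + 1024 ∧
      sy = Ms.map (fun M => (∑ q ∈ range 24, raw M x (ptOf q) + 8192).toNat) ∧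
      (∀ a ∈ xs, a ≤ 16) ∧ (∀ l ∈ ys, ∀ a ∈ l, a ≤ 128) ∧
      (∀ a ∈ xs ++ ys.flatten ++ sx :: sy, a < base) ∧
      (offs Ms : ℤ) + lin K x = (npack (xs ++ ys.flatten ++ sx :: sy) : ℤ) := by
  have hx := coord_bound (b := 8) hn.le (by norm_num) (by norm_num)
  have hy : ∀ M ∈ Ms, ∀ q, -64 ≤ raw M x q ∧ raw M x q ≤ 64 := fun M hMM =>
    coord_bound (b := 64) (by rw [sqNorm_raw (hM M hMM), hn]) (by norm_num) (by norm_num)
  have hsx : -192 ≤ ∑ i ∈ range 24, x (ptOf i) ∧ ∑ i ∈ range 24, x (ptOf i) ≤ 192 := by
    constructor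
    · have := Finset.card_nsmul_le_sum (range 24) (fun i => x (ptOf i)) (-8) fun i _ => (hx _).1
      simpa using this
    · have := Finset.sum_le_card_nsmul (range 24) (fun i => x (ptOf i)) 8 fun i _ => (hx _).2
      simpa using this
  have hsy : ∀ M ∈ Ms, -1536 ≤ ∑ q ∈ range 24, raw M x (ptOf q) ∧
      ∑ q ∈ range 24, raw M x (ptOf q) ≤ 1536 := fun M hMM => by
    constructor
    · have := Finset.card_nsmul_le_sum (range 24) (fun q => raw M x (ptOf q)) (-64)
        fun q _ => (hy M hMM _).1
      simpa using this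
    · have := Finset.sum_le_card_nsmul (range 24) (fun q => raw M x (ptOf q)) 64
        fun q _ => (hy M hMM _).2
      simpa using this
  refine ⟨_, _, (∑ i ∈ range 24, x (ptOf i) + 1024).toNat, _, rfl, rfl,
    Int.toNat_of_nonneg (by omega), rfl, ?_, ?_, ?_, ?_⟩
  · simp only [List.mem_map]
    rintro _ ⟨i, -, rfl⟩
    have := hx (ptOf i); omega
  · simp only [List.mem_map]
    rintro _ ⟨M, hMM, rfl⟩ a ha
    obtain ⟨k, -, rfl⟩ := List.mem_map.1 ha
    have := hy M hMM (ptOf (23 - k)); omega
  · simp only [List.mem_append, List.mem_flatten, List.mem_cons, List.mem_map]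
    rintro a ((⟨i, -, rfl⟩ | ⟨l, ⟨M, hMM, rfl⟩, ha⟩) | rfl | ⟨M, hMM, rfl⟩)
    · have := hx (ptOf i); simp only [base]; omega
    · obtain ⟨k, -, rfl⟩ := List.mem_map.1 ha
      have := hy M hMM (ptOf (23 - k)); simp only [base]; omega
    · simp only [base]; omega
    · have := hsy M hMM; simp only [base]; omega
  · have hlin : ∀ c : ℕ → ℤ, lin c x = ∑ i ∈ range 24, x (ptOf i) * c i := fun c => rfl
    have hpos : 0 ≤ pack ((fields Ms).map fun F => F.2) := by
      have hnn : ∀ l : List ℤ, (∀ a ∈ l, 0 ≤ a) → 0 ≤ pack l := by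
        intro l
        induction l with
        | nil => simp [pack]
        | cons a t ih =>
          intro h
          have := ih fun b hb => h b (List.mem_cons_of_mem _ hb)
          have := h a List.mem_cons_self
          rw [pack]; positivity
      refine hnn _ fun a ha => ?_
      simp only [fields, List.map_append, List.map_cons, List.map_flatMap, List.map_map,
        List.mem_append, List.mem_cons, List.mem_flatMap, List.mem_map, Function.comp_apply] at ha
      rcases ha with (⟨_, -, rfl⟩ | ⟨_, -, _, -, rfl⟩) | rfl | ⟨_, -, rfl⟩ <;> norm_num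
    rw [offs, Int.toNat_of_nonneg hpos, lin_pack K (fields Ms) x hK, ← pack_cast]
    congr 1
    simp only [fields, List.map_append, List.map_cons, List.map_flatMap, List.map_map,
      List.flatMap_def, List.map_flatten]
    congr 1
    · congr 1
      · refine List.map_congr_left fun k hk => ?_
        simp only [Function.comp_apply, hlin, mul_ite, mul_one, mul_zero, Finset.sum_ite_eq',
          mem_range, List.mem_range.1 hk, if_true]
        have := hx (ptOf k); omega
      · congr 1
        refine List.map_congr_left fun M hMM => ?_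
        simp only [Function.comp_apply, List.map_map]
        refine List.map_congr_left fun k hk => ?_
        simp only [Function.comp_apply, hlin]
        rw [Int.toNat_of_nonneg (by have := hy M hMM (ptOf (23 - k)); omega), raw,
          Leech.idx_ptOf _ (by omega)]
        congr 1
        exact Finset.sum_congr rfl fun i _ => mul_comm _ _
    · congr 1
      · simp only [hlin, mul_one]; omega
      · refine List.map_congr_left fun M hMM => ?_
        simp only [Function.comp_apply, hlin]
        rw [Int.toNat_of_nonneg (by have := hsy M hMM; omega)]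
        congr 1
        simp only [Finset.mul_sum]
        rw [Finset.sum_comm]
        refine Finset.sum_congr rfl fun q hq => ?_
        rw [raw, Leech.idx_ptOf q (mem_range.1 hq)]
        exact Finset.sum_congr rfl fun i _ => mul_comm _ _

theorem chk_value (xs : List ℕ) (ys : List (List ℕ)) (sx : ℕ) (sy : List ℕ) (hxl : xs.length = 24)
    (hyl : ∀ l ∈ ys, l.length = 24) (hsl : sy.length = ys.length)
    (hx : ∀ a ∈ xs, a ≤ 16) (hy : ∀ l ∈ ys, ∀ a ∈ l, a ≤ 128)
    (hb : ∀ a ∈ xs ++ ys.flatten ++ sx :: sy, a < base) (k : ℕ) (hk : k < ys.length) (c : ℕ) :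
    chk ys.length k c (npack (xs ++ ys.flatten ++ sx :: sy)) = true ↔
      (∑ i ∈ range 24, xs.getD i 0 * (ys.getD k []).getD (23 - i) 0) + 131072 =
        64 * sx + 8 * sy.getD k 0 + c := by
  set n := npack (xs ++ ys.flatten ++ sx :: sy) with hn
  have hfl : ∀ L : List (List ℕ), (∀ l ∈ L, l.length = 24) → L.flatten.length = 24 * L.length := by
    intro L
    induction L with
    | nil => simp
    | cons a t ih =>
      intro h
      simp only [List.flatten_cons, List.length_append, List.length_cons,
        h a List.mem_cons_self, ih fun l hl => h l (List.mem_cons_of_mem _ hl)]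
      ring
  have hyk : ys.getD k [] = ys[k] := by simp [List.getD_eq_getElem?_getD, hk]
  have hlk : (ys[k]).length = 24 := hyl _ (List.getElem_mem hk)
  have e1 : n % W384 = npack xs := by
    rw [W384]
    have := npack_seg_bits [] xs (ys.flatten ++ sx :: sy) (by simpa [List.append_assoc] using hb)
    rw [hxl] at this
    simpa [hn, List.append_assoc] using this
  have e2 : n >>> (384 * (k + 1)) % W384 = npack (ys[k]) := by
    rw [W384]
    have hsplit : xs ++ ys.flatten ++ sx :: sy =
        (xs ++ (ys.take k).flatten) ++ ys[k] ++ ((ys.drop (k + 1)).flatten ++ sx :: sy) := by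
      conv_lhs => rw [← List.take_append_drop k ys, List.drop_eq_getElem_cons hk]
      rw [List.flatten_append, List.flatten_cons]
      simp only [List.append_assoc]
    have := npack_seg_bits (xs ++ (ys.take k).flatten) (ys[k]) ((ys.drop (k + 1)).flatten ++ sx :: sy)
      (hsplit ▸ hb)
    rw [List.length_append, hxl, hfl _ (fun l hl => hyl l (List.mem_of_mem_take hl)),
      List.length_take, min_eq_left hk.le, hlk, ← hsplit] at this
    rwa [show 384 * (k + 1) = 16 * (24 + 24 * k) by ring]
  have e3 : n >>> (384 * (ys.length + 1)) % 65536 = sx := by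
    have := npack_seg_bits (xs ++ ys.flatten) [sx] sy (by simpa [List.append_assoc] using hb)
    rw [List.length_append, hxl, hfl _ hyl, List.length_singleton,
      show xs ++ ys.flatten ++ [sx] ++ sy = xs ++ ys.flatten ++ sx :: sy by simp] at this
    rw [show 384 * (ys.length + 1) = 16 * (24 + 24 * ys.length) by ring, hn]
    simpa [npack] using this
  have e4 : n >>> (384 * (ys.length + 1) + 16 * (k + 1)) % 65536 = sy.getD k 0 := by
    have hks : k < sy.length := hsl ▸ hk
    have hsplit : xs ++ ys.flatten ++ sx :: sy =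
        (xs ++ ys.flatten ++ sx :: sy.take k) ++ [sy[k]] ++ sy.drop (k + 1) := by
      conv_lhs => rw [← List.take_append_drop k sy, List.drop_eq_getElem_cons hks]
      simp only [List.append_assoc, List.cons_append, List.nil_append]
    have := npack_seg_bits (xs ++ ys.flatten ++ sx :: sy.take k) [sy[k]] (sy.drop (k + 1)) (hsplit ▸ hb)
    rw [List.length_append, List.length_cons, List.length_append, hxl, hfl _ hyl, List.length_take,
      min_eq_left hks.le, List.length_singleton, ← hsplit] at this
    rw [show 384 * (ys.length + 1) + 16 * (k + 1) = 16 * (24 + 24 * ys.length + (k + 1)) by ring, hn]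
    simpa [npack, List.getD_eq_getElem?_getD, hks] using this
  have hd := prod_digit xs (ys[k]) hxl hlk 16 128 hx (hy _ (List.getElem_mem hk)) (by decide)
  rw [← dig_eq] at hd
  show Nat.beq (dig (n % W384) (n >>> (384 * (k + 1)) % W384) + 131072)
    (64 * (n >>> (384 * (ys.length + 1)) % 65536) +
      8 * (n >>> (384 * (ys.length + 1) + 16 * (k + 1)) % 65536) + c) = true ↔ _
  rw [e1, e2, hd, e3, e4, hyk, Nat.beq_eq]

/-- All the tests, after removing a shift. -/
def allChk (m : ℕ) (cs : List (ℕ × ℕ)) (sub : ℕ) (n : ℕ) : Bool :=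
  cs.all fun kc => chk m kc.1 kc.2 (Nat.sub n sub)

/-- The vectors with given scalar products with their images are at most as many as counted. -/
theorem ncard_quad_le (Ms : List (List (List ℤ))) (hM : ∀ M ∈ Ms, Ok M) (ts : List ℤ) (K : ℕ → ℤ)
    (hK : (List.range 24).all (fun i => decide (K i = coef Ms i)) = true) (B sub : ℕ)
    (hB : okB K B (offs Ms + sub) = true) (cs : List (ℕ × ℕ))
    (hcs : cs.all (fun kc => decide (kc.1 < Ms.length) &&
      decide ((kc.2 : ℤ) = 8 * ts.getD kc.1 0 + 12288)) = true) (p : ℕ → Bool)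
    (hp : ∀ n, p n = allChk Ms.length cs sub n) :
    {x : GolayPt → ℤ | x ∈ leechLattice ∧ sqNorm x = 32 ∧
        ∀ k < Ms.length, dotInt x (app (Ms.getD k []) x) = ts.getD k 0}.ncard ≤
      countPair K (offs Ms + sub) p + countOct K B (offs Ms + sub) p octL +
        countOdd K B (offs Ms + sub) p codeL := by
  simp only [List.all_eq_true, List.mem_range, Bool.and_eq_true, decide_eq_true_eq] at hK hcs
  refine le_trans (Set.ncard_le_ncard ?_ ?_) (ncard_short_le K B _ hB p)
  · rintro x ⟨hxl, hxn, hx⟩
    refine ⟨hxl, hxn, ?_⟩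
    rw [hp]
    simp only [allChk, List.all_eq_true]
    intro kc hkc
    obtain ⟨hk, hc⟩ := hcs kc hkc
    obtain ⟨xs, ys, sx, sy, exs, eys, esx, esy, bx, by', bb, hv⟩ := packed_value Ms hM K hK hxn
    rw [show ((((offs Ms + sub : ℕ)) : ℤ) + lin K x).toNat =
      npack (xs ++ ys.flatten ++ sx :: sy) + sub by push_cast; omega, Nat.sub_eq,
      Nat.add_sub_cancel]
    have hyl : ys.length = Ms.length := by simp [eys]
    rw [← hyl]
    refine (chk_value xs ys sx sy (by simp [exs]) ?_ (by simp [esy, eys]) bx by' bb kc.1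
      (hyl ▸ hk) kc.2).2 ?_
    · rw [eys]; simp only [List.mem_map]; rintro _ ⟨M, -, rfl⟩; simp
    have hM0 := hM _ (List.getElem_mem hk)
    have hd := hx kc.1 hk
    rw [show Ms.getD kc.1 [] = Ms[kc.1] by simp [List.getD_eq_getElem?_getD, hk]] at hd
    set M := Ms[kc.1] with hMdef
    have hraw : ∑ p, x p * raw M x p = 8 * ts.getD kc.1 0 := by
      rw [(app_spec hM0.le hxl).2, ← hd, dotInt, Finset.mul_sum]
      exact Finset.sum_congr rfl fun p _ => by simp only [Pi.smul_apply, smul_eq_mul]; ring
    rw [sum_pts] at hraw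
    have hys : ys.getD kc.1 [] = (List.range 24).map fun k => (raw M x (ptOf (23 - k)) + 64).toNat := by
      simp [eys, List.getD_eq_getElem?_getD, hk, hMdef]
    have hsy' : sy.getD kc.1 0 = (∑ q ∈ range 24, raw M x (ptOf q) + 8192).toNat := by
      simp [esy, List.getD_eq_getElem?_getD, hk, hMdef]
    have hbx := coord_bound (b := 8) hxn.le (by norm_num) (by norm_num)
    have hby := coord_bound (b := 64) (x := raw M x) (by rw [sqNorm_raw hM0, hxn]) (by norm_num)
      (by norm_num)
    have hsum : ((∑ i ∈ range 24, xs.getD i 0 * (ys.getD kc.1 []).getD (23 - i) 0 : ℕ) : ℤ) =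
        ∑ i ∈ range 24, (x (ptOf i) + 8) * (raw M x (ptOf i) + 64) := by
      rw [Nat.cast_sum]
      refine Finset.sum_congr rfl fun i hi => ?_
      have hi' := mem_range.1 hi
      rw [hys, exs]
      simp only [List.getD_eq_getElem?_getD, List.getElem?_map, List.getElem?_range hi',
        List.getElem?_range (show 23 - i < 24 by omega), Option.map_some, Option.getD_some]
      rw [show 23 - (23 - i) = i by omega, Nat.cast_mul,
        Int.toNat_of_nonneg (by have := hbx (ptOf i); omega),
        Int.toNat_of_nonneg (by have := hby (ptOf i); omega)]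
    have hsy2 : ((sy.getD kc.1 0 : ℕ) : ℤ) = ∑ q ∈ range 24, raw M x (ptOf q) + 8192 := by
      rw [hsy', Int.toNat_of_nonneg]
      have := Finset.card_nsmul_le_sum (range 24) (fun q => raw M x (ptOf q)) (-64)
        fun q _ => (hby _).1
      simp at this; omega
    simp only [add_mul, mul_add, Finset.sum_add_distrib, ← Finset.mul_sum, ← Finset.sum_mul,
      hraw, Finset.sum_const, Finset.card_range, nsmul_eq_mul] at hsum
    omega
  · exact (Set.finite_of_ncard_ne_zero (s := {x : GolayPt → ℤ | x ∈ leechLattice ∧ sqNorm x = 32})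
      (by rw [Leech.ncard_norm32]; norm_num)).subset
      fun x hx => (⟨hx.1, hx.2.1⟩ : x ∈ {x : GolayPt → ℤ | x ∈ leechLattice ∧ sqNorm x = 32})

end Cfsg.Agent.CoOneUniq.Local
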