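import Cfsg.Agent.CoOneUniq.Local.Mat

/-!
# The element of order seven of the model
-/

set_option autoImplicit false
set_option maxRecDepth 100000

open Cfsg
open Cfsg.Agent.Leech (LGen)

namespace Cfsg.Agent.CoOneUniq.Local.Seven

/-- Eight times its matrix. -/
def vM : List (List ℤ) :=
  [[-3, -1, 1, 1, 1, -1, 1, -1, 1, -1, 1, 1, 3, 1, -1, -3, 3, 1, -1, -1, -1, 1, 3, -1],
   [-1, -3, -1, -1, -1, 1, -1, 1, 3, 1, 3, -1, -3, -1, 1, -1, 1, -1, -3, 1, 1, -1, 1, 1],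
   [-1, 1, -1, 3, -1, 1, -1, 1, -1, 1, -1, 3, 1, -1, 1, -1, 1, -1, -3, -3, 1, -1, -3, 1],
   [-1, 1, -1, -1, -1, 1, -1, 1, -1, 1, -1, 3, -3, 3, 1, -1, 1, 3, 1, 1, 1, 3, 1, 1],
   [-1, 1, -1, -1, -1, 1, -1, -3, -1, 1, -1, -1, -3, -1, 1, -1, 1, -1, 1, -3, -3, -1, 1, -3],
   [1, -1, -3, 1, 1, -1, 1, -1, 1, -1, 1, 1, -1, -3, -1, 1, 3, 1, 3, -1, 3, 1, -1, -1],
   [-1, 1, -1, 3, -1, 1, -1, -3, -1, 1, 3, -1, 1, 3, 1, 3, 1, -1, 1, 1, 1, -1, 1, 1],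
   [1, -1, 1, 1, 1, -1, 1, -1, 1, -1, 1, 1, -1, 1, 3, -3, -1, -3, 3, -1, -1, 1, -1, 3],
   [-1, -3, -1, -1, -1, 1, -1, 1, -1, -3, -1, 3, 1, -1, 1, 3, 1, -1, 1, 1, -3, -1, 1, 1],
   [1, -1, -3, 1, 1, -1, 1, -1, -3, -1, 1, 1, -1, 1, -1, -3, -1, 1, -1, 3, -1, -3, -1, -1],
   [-3, -1, -3, 1, 1, -1, 1, -1, 1, -1, -3, -3, -1, 1, -1, 1, -1, 1, -1, -1, -1, 1, -1, 3],
   [-1, 1, -1, -1, 3, 5, 3, 1, -1, 1, -1, -1, 1, -1, 1, -1, 1, -1, 1, 1, 1, -1, 1, 1],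
   [1, -1, 1, 1, 1, -1, 1, -1, 1, 3, -3, 1, -1, 1, -1, 1, 3, -3, -1, 3, -1, 1, -1, -1],
   [-3, 3, 1, 1, 1, -1, 1, -1, 1, -1, 1, 1, -1, -3, 3, 1, -1, 1, -1, 3, -1, 1, -1, -1],
   [1, -1, 1, 1, 1, -1, 1, -1, -3, 3, 1, 1, -1, -3, -1, 1, -1, 1, -1, -1, -1, 1, 3, 3],
   [-1, -3, -1, 3, -1, 1, -1, 1, -1, 1, -1, -1, 1, -1, 1, -1, -3, -1, 1, 1, 1, 3, 1, -3],
   [-3, -1, 1, 1, 1, -1, 1, 3, 1, 3, 1, 1, -1, 1, -1, 1, -1, 1, 3, -1, -1, -3, -1, -1],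
   [-1, 1, -1, -1, -1, 1, -1, -3, 3, 1, -1, 3, 1, -1, -3, -1, -3, -1, 1, 1, 1, -1, 1, 1],
   [-3, -1, 1, -3, 1, -1, 1, -1, -3, -1, 1, 1, -1, 1, -1, 1, -1, -3, -1, -1, 3, 1, -1, -1],
   [-1, 1, 3, 3, -1, 1, -1, 1, -1, -3, -1, -1, -3, -1, -3, -1, 1, -1, 1, 1, 1, -1, 1, 1],
   [-1, 1, -1, -1, 3, -3, -5, 1, -1, 1, -1, -1, 1, -1, 1, -1, 1, -1, 1, 1, 1, -1, 1, 1],
   [1, -1, 1, 1, 1, -1, 1, -1, 1, -1, -3, 1, -1, 1, 3, 1, -1, 1, -1, -1, 3, -3, 3, -1],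
   [-1, -3, 3, -1, -1, 1, -1, -3, -1, 1, -1, -1, 1, -1, 1, -1, 1, 3, 1, 1, 1, -1, -3, 1],
   [1, -1, 1, 1, 5, 3, -3, -1, 1, -1, 1, 1, -1, 1, -1, 1, -1, 1, -1, -1, -1, 1, -1, -1]]

theorem vM_ok : matB vM = true := by decide +kernel

/-- The element. -/
def vG : LGen := matGen vM vM_ok

end Cfsg.Agent.CoOneUniq.Local.Seven
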