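import Cfsg.Agent.CentType.Three
import Cfsg.Agent.CoSection.CentCert
import Cfsg.Agent.CoOneUniq.Eval
import Cfsg.Agent.CoOneUniq.Local.Assemble

/-!
# A normaliser `S3 × A9` in the model

The fixed-point-free permutation of order three of the code group; the bound on its centraliser is the
certificate of `CentType.Three`.  Seven Carmichael generators and the inverting involution are checked
on one probe vector.
-/

set_option autoImplicit false
set_option maxRecDepth 100000
set_option Elab.async false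

open Cfsg
open Cfsg.Agent.Leech (LGen zneg)
open Cfsg.Agent.Leech.CentOne (toCo toCo_one_iff)

namespace Cfsg.Agent.CoOneUniq.Local.WThree

open CoSection (eqB g_eq)

/-- The permutation as a list map. -/
def sG : LGen :=
  ⟨MonsterType.permHom CentType.Three.sigM, CentType.permL CentType.Three.sigP,
    CentType.toL_perm CentType.Three.sig_idx⟩

/-- The inverting permutation as a list map. -/
def tG2 : LGen :=
  ⟨MonsterType.permHom CentType.Three.twoM, CentType.permL CentType.Three.twoP,
    CentType.toL_perm CentType.Three.two_idx⟩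

/-- The extra element, evaluated factor by factor. -/
noncomputable def wG : LGen :=
  prodG [CentType.Three.monW, CentType.Three.xiW4, CentType.Three.sgn4, CentType.Three.xiW3,
    CentType.Three.sgn3, CentType.Three.xiW2, CentType.Three.sgn2, CentType.Three.xiW1,
    CentType.Three.sgn1, CentType.Three.xiW0, CentType.Three.sgn0]

/-- The letters. -/
noncomputable def letG (c : ℕ) : LGen := [CentType.Three.genP, wG, sG, tG2].getD c idG

/-- The words of the generators. -/
def genW : List (List ℕ) :=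
  [[2, 0, 0, 0, 0, 0, 1, 0, 0, 0, 1, 0, 0, 0, 0, 0, 0, 1],
   [2, 0, 0, 0, 1, 1, 0, 0, 1, 1, 0, 1, 1, 0, 0, 0, 1, 1, 0],
   [2, 0, 0, 1, 0, 1, 0, 0, 1, 0, 1, 1, 0, 1, 1, 0, 1, 1],
   [2, 0, 1, 0, 0, 1, 1, 0, 0, 0, 0, 0, 0, 1, 1, 0, 0, 1],
   [1, 1, 0, 0, 1, 1, 1, 0, 1, 1, 1, 0, 0, 0, 1],
   [2, 2, 0, 1, 0, 1, 0, 0, 1, 0, 1, 0, 0, 0, 0, 1, 1, 0, 1, 0],
   [2, 2, 0, 0, 1, 0, 0, 1, 0, 1, 0, 1, 1, 1, 1, 1, 1, 0]]

/-- A generator. -/
noncomputable def xG (i : ℕ) : LGen := prodG ((genW.getD i []).map letG)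

/-- Equality up to sign on the probe. -/
noncomputable def sameP (a b : LGen) : Bool := eqB a.f b.f || eqB a.f (fcomp negG b).f

theorem toCo_eq_of_sameP {a b : LGen} (h : sameP a b = true) : toCo a.g = toCo b.g := by
  rcases Bool.or_eq_true_iff.1 h with h | h
  · rw [g_eq h]
  · rw [g_eq h]
    show toCo (zneg * b.g) = _
    rw [map_mul, show toCo zneg = 1 from toCo_one_iff.2 (Or.inr rfl), one_mul]

theorem cube_0 : sameP (fcomp (xG 0) (fcomp (xG 0) (xG 0))) idG = true := by
  decide +kernel

theorem cube_1 : sameP (fcomp (xG 1) (fcomp (xG 1) (xG 1))) idG = true := by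
  decide +kernel

theorem cube_2 : sameP (fcomp (xG 2) (fcomp (xG 2) (xG 2))) idG = true := by
  decide +kernel

theorem cube_3 : sameP (fcomp (xG 3) (fcomp (xG 3) (xG 3))) idG = true := by
  decide +kernel

theorem cube_4 : sameP (fcomp (xG 4) (fcomp (xG 4) (xG 4))) idG = true := by
  decide +kernel

theorem cube_5 : sameP (fcomp (xG 5) (fcomp (xG 5) (xG 5))) idG = true := by
  decide +kernel

theorem cube_6 : sameP (fcomp (xG 6) (fcomp (xG 6) (xG 6))) idG = true := by
  decide +kernel

theorem pair_0_1 : sameP (fcomp (fcomp (xG 0) (xG 1)) (fcomp (xG 0) (xG 1))) idG = true := by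
  decide +kernel

theorem pair_0_2 : sameP (fcomp (fcomp (xG 0) (xG 2)) (fcomp (xG 0) (xG 2))) idG = true := by
  decide +kernel

theorem pair_0_3 : sameP (fcomp (fcomp (xG 0) (xG 3)) (fcomp (xG 0) (xG 3))) idG = true := by
  decide +kernel

theorem pair_0_4 : sameP (fcomp (fcomp (xG 0) (xG 4)) (fcomp (xG 0) (xG 4))) idG = true := by
  decide +kernel

theorem pair_0_5 : sameP (fcomp (fcomp (xG 0) (xG 5)) (fcomp (xG 0) (xG 5))) idG = true := by
  decide +kernel

theorem pair_0_6 : sameP (fcomp (fcomp (xG 0) (xG 6)) (fcomp (xG 0) (xG 6))) idG = true := by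
  decide +kernel

theorem pair_1_2 : sameP (fcomp (fcomp (xG 1) (xG 2)) (fcomp (xG 1) (xG 2))) idG = true := by
  decide +kernel

theorem pair_1_3 : sameP (fcomp (fcomp (xG 1) (xG 3)) (fcomp (xG 1) (xG 3))) idG = true := by
  decide +kernel

theorem pair_1_4 : sameP (fcomp (fcomp (xG 1) (xG 4)) (fcomp (xG 1) (xG 4))) idG = true := by
  decide +kernel

theorem pair_1_5 : sameP (fcomp (fcomp (xG 1) (xG 5)) (fcomp (xG 1) (xG 5))) idG = true := by
  decide +kernel

theorem pair_1_6 : sameP (fcomp (fcomp (xG 1) (xG 6)) (fcomp (xG 1) (xG 6))) idG = true := by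
  decide +kernel

theorem pair_2_3 : sameP (fcomp (fcomp (xG 2) (xG 3)) (fcomp (xG 2) (xG 3))) idG = true := by
  decide +kernel

theorem pair_2_4 : sameP (fcomp (fcomp (xG 2) (xG 4)) (fcomp (xG 2) (xG 4))) idG = true := by
  decide +kernel

theorem pair_2_5 : sameP (fcomp (fcomp (xG 2) (xG 5)) (fcomp (xG 2) (xG 5))) idG = true := by
  decide +kernel

theorem pair_2_6 : sameP (fcomp (fcomp (xG 2) (xG 6)) (fcomp (xG 2) (xG 6))) idG = true := by
  decide +kernel

theorem pair_3_4 : sameP (fcomp (fcomp (xG 3) (xG 4)) (fcomp (xG 3) (xG 4))) idG = true := by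
  decide +kernel

theorem pair_3_5 : sameP (fcomp (fcomp (xG 3) (xG 5)) (fcomp (xG 3) (xG 5))) idG = true := by
  decide +kernel

theorem pair_3_6 : sameP (fcomp (fcomp (xG 3) (xG 6)) (fcomp (xG 3) (xG 6))) idG = true := by
  decide +kernel

theorem pair_4_5 : sameP (fcomp (fcomp (xG 4) (xG 5)) (fcomp (xG 4) (xG 5))) idG = true := by
  decide +kernel

theorem pair_4_6 : sameP (fcomp (fcomp (xG 4) (xG 6)) (fcomp (xG 4) (xG 6))) idG = true := by
  decide +kernel

theorem pair_5_6 : sameP (fcomp (fcomp (xG 5) (xG 6)) (fcomp (xG 5) (xG 6))) idG = true := by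
  decide +kernel

theorem comm_all : (List.range 7).all (fun i =>
    sameP (fcomp sG (xG i)) (fcomp (xG i) sG) && sameP (fcomp tG2 (xG i)) (fcomp (xG i) tG2) &&
      !sameP (xG i) idG) = true := by
  decide +kernel

theorem two_sq : sameP (fcomp tG2 tG2) idG = true := by decide +kernel

theorem two_conj : sameP (fcomp (fcomp tG2 sG) (fcomp tG2 sG)) idG = true := by decide +kernel

theorem orderOf_sG : orderOf sG.g = 3 := CentType.Three.data.orderOf_sX

theorem card_cent : Nat.card ↥(Subgroup.centralizer ({sG.g} : Set ↥Co0)) ≤ 1088640 := by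
  refine le_trans CentType.Three.data.card_C_le ?_
  rw [CentType.Three.card_alt]

theorem ne_one {a : LGen} (h : sameP a idG = false) : toCo a.g ≠ 1 := fun e => by
  simp only [sameP, Bool.or_eq_false_iff] at h
  rcases toCo_one_iff.1 e with e | e
  · exact CoSection.g_ne h.1 e
  · refine CoSection.g_ne h.2 (e.trans ?_)
    exact (mul_one zneg).symm

theorem mul_one_of {a b : LGen} (h : sameP (fcomp a b) idG = true) : toCo a.g * toCo b.g = 1 := by
  rw [← toCo_comp, toCo_eq_of_sameP h]
  exact map_one toCo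

theorem cube (i : ℕ) (hi : i < 7) : toCo (xG i).g ^ 3 = 1 := by
  have h : sameP (fcomp (xG i) (fcomp (xG i) (xG i))) idG = true := by
    interval_cases i
    · exact cube_0
    · exact cube_1
    · exact cube_2
    · exact cube_3
    · exact cube_4
    · exact cube_5
    · exact cube_6
  rw [pow_three, ← toCo_comp]
  exact mul_one_of h

theorem pair_lt (i j : ℕ) (hij : i < j) (hj : j < 7) :
    (toCo (xG i).g * toCo (xG j).g) ^ 2 = 1 := by
  have h : sameP (fcomp (fcomp (xG i) (xG j)) (fcomp (xG i) (xG j))) idG = true := by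
    interval_cases j <;> interval_cases i
    · exact pair_0_1
    · exact pair_0_2
    · exact pair_1_2
    · exact pair_0_3
    · exact pair_1_3
    · exact pair_2_3
    · exact pair_0_4
    · exact pair_1_4
    · exact pair_2_4
    · exact pair_3_4
    · exact pair_0_5
    · exact pair_1_5
    · exact pair_2_5
    · exact pair_3_5
    · exact pair_4_5
    · exact pair_0_6
    · exact pair_1_6
    · exact pair_2_6
    · exact pair_3_6
    · exact pair_4_6
    · exact pair_5_6
  rw [pow_two, ← toCo_comp]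
  exact mul_one_of h

/-- The normaliser in the model. -/
theorem exists_W : ∃ W : Subgroup Spor.Co1, Nat.card W = 3 ∧
    Nonempty (↥(Subgroup.normalizer (W : Set Spor.Co1)) ≃*
      Equiv.Perm (Fin 3) × alternatingGroup (Fin 9)) := by
  have hall : ∀ i, i < 7 → sameP (fcomp sG (xG i)) (fcomp (xG i) sG) = true ∧
      sameP (fcomp tG2 (xG i)) (fcomp (xG i) tG2) = true ∧ sameP (xG i) idG = false := fun i hi => by
    have := List.all_eq_true.1 comm_all i (List.mem_range.2 hi)
    simpa [Bool.and_eq_true, and_assoc] using this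
  have hcomm : ∀ {a b : LGen}, sameP (fcomp a b) (fcomp b a) = true →
      toCo a.g * toCo b.g = toCo b.g * toCo a.g := fun h => by
    rw [← toCo_comp, ← toCo_comp, toCo_eq_of_sameP h]
  refine exists_three orderOf_sG card_cent (toCo tG2.g) (mul_one_of two_sq) ?_
    (fun i => toCo (xG i).g) cube (fun i j hi hj hij => ?_)
    ⟨0, by norm_num, ne_one (hall 0 (by norm_num)).2.2⟩
    (fun i hi => hcomm (hall i hi).1) (fun i hi => hcomm (hall i hi).2.1)
  · have e := mul_one_of two_conj
    rw [toCo_comp] at e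
    exact eq_inv_of_mul_eq_one_left (by rw [mul_assoc]; exact e)
  · rcases Nat.lt_or_ge i j with h | h
    · exact pair_lt i j h hj
    · have := pair_lt j i (lt_of_le_of_ne h (Ne.symm hij)) hi
      rw [pow_two] at this ⊢
      calc toCo (xG i).g * toCo (xG j).g * (toCo (xG i).g * toCo (xG j).g)
          = toCo (xG i).g * (toCo (xG j).g * toCo (xG i).g * (toCo (xG j).g * toCo (xG i).g)) *
              (toCo (xG i).g)⁻¹ := by group
        _ = 1 := by rw [this, mul_one, mul_inv_cancel]

end Cfsg.Agent.CoOneUniq.Local.WThree
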