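import Cfsg.Agent.CoOneUniq.Local.SevenElt
import Cfsg.Agent.CoOneUniq.Local.WThree

/-!
# Carmichael generators commuting with the element of order seven
-/

set_option autoImplicit false
set_option maxRecDepth 100000
set_option Elab.async false

open Cfsg
open Cfsg.Agent.Leech (LGen)
open Cfsg.Agent.Leech.CentOne (toCo)

namespace Cfsg.Agent.CoOneUniq.Local.Seven

open WThree (sameP toCo_eq_of_sameP mul_one_of ne_one)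

/-- Generator 0. -/
def xM0 : List (List ℤ) :=
  [[-4, 0, 0, -2, 0, 0, 2, 0, 2, -2, -2, -2, 2, 2, 0, 0, 2, 0, 0, 0, 2, 0, -2, 2],
   [0, -4, 0, -2, 0, 0, 2, 0, 2, 2, -2, 2, -2, 2, 0, 0, -2, 0, 0, 0, -2, 0, 2, 2],
   [0, 0, -4, 2, 0, 0, -2, 0, 2, -2, -2, -2, -2, 2, 0, 0, -2, 0, 0, 0, -2, 0, -2, -2],
   [2, 2, -2, -4, -2, -2, 0, -2, 0, 0, 0, 0, 0, 0, 2, 2, 0, -2, -2, -2, 0, 2, 0, 0],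
   [0, 0, 0, 2, -4, 0, -2, 0, 2, 2, -2, 2, 2, -2, 0, 0, -2, 0, 0, 0, 2, 0, -2, 2],
   [0, 0, 0, 2, 0, -4, 2, 0, -2, -2, -2, 2, 2, 2, 0, 0, -2, 0, 0, 0, 2, 0, 2, -2],
   [-2, -2, 2, 0, 2, -2, -4, -2, 0, 0, 0, 0, 0, 0, 2, -2, 0, -2, 2, -2, 0, 2, 0, 0],
   [0, 0, 0, 2, 0, 0, 2, -4, 2, -2, 2, -2, -2, -2, 0, 0, -2, 0, 0, 0, 2, 0, 2, 2],
   [-2, -2, -2, 0, -2, 2, 0, -2, -4, 0, 0, 0, 0, 0, 2, 2, 0, -2, 2, 2, 0, -2, 0, 0],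
   [2, -2, 2, 0, -2, 2, 0, 2, 0, -4, 0, 0, 0, 0, 2, -2, 0, -2, -2, -2, 0, -2, 0, 0],
   [2, 2, 2, 0, 2, 2, 0, -2, 0, 0, -4, 0, 0, 0, 2, 2, 0, 2, 2, -2, 0, -2, 0, 0],
   [2, -2, 2, 0, -2, -2, 0, 2, 0, 0, 0, -4, 0, 0, 2, 2, 0, 2, 2, 2, 0, 2, 0, 0],
   [-2, 2, 2, 0, -2, -2, 0, 2, 0, 0, 0, 0, -4, 0, -2, 2, 0, -2, 2, -2, 0, -2, 0, 0],
   [-2, -2, -2, 0, 2, -2, 0, 2, 0, 0, 0, 0, 0, -4, 2, 2, 0, 2, -2, -2, 0, -2, 0, 0],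
   [0, 0, 0, -2, 0, 0, -2, 0, -2, -2, -2, -2, 2, -2, -4, 0, -2, 0, 0, 0, -2, 0, 2, 2],
   [0, 0, 0, -2, 0, 0, 2, 0, -2, 2, -2, -2, -2, -2, 0, -4, -2, 0, 0, 0, 2, 0, -2, -2],
   [-2, 2, 2, 0, 2, 2, 0, 2, 0, 0, 0, 0, 0, 0, 2, 2, -4, -2, -2, 2, 0, 2, 0, 0],
   [0, 0, 0, 2, 0, 0, 2, 0, 2, 2, -2, -2, 2, -2, 0, 0, 2, -4, 0, 0, -2, 0, 2, -2],
   [0, 0, 0, 2, 0, 0, -2, 0, -2, 2, -2, -2, -2, 2, 0, 0, 2, 0, -4, 0, 2, 0, 2, 2],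
   [0, 0, 0, 2, 0, 0, 2, 0, -2, 2, 2, -2, 2, 2, 0, 0, -2, 0, 0, -4, -2, 0, -2, 2],
   [-2, 2, 2, 0, -2, -2, 0, -2, 0, 0, 0, 0, 0, 0, 2, -2, 0, 2, -2, 2, -4, -2, 0, 0],
   [0, 0, 0, -2, 0, 0, -2, 0, 2, 2, 2, -2, 2, 2, 0, 0, -2, 0, 0, 0, 2, -4, 2, -2],
   [2, -2, 2, 0, 2, -2, 0, -2, 0, 0, 0, 0, 0, 0, -2, 2, 0, -2, -2, 2, 0, -2, -4, 0],
   [-2, -2, 2, 0, -2, 2, 0, -2, 0, 0, 0, 0, 0, 0, -2, 2, 0, 2, -2, -2, 0, 2, 0, -4]]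

theorem xM0_ok : matB xM0 = true := by decide +kernel

/-- Generator 1. -/
def xM1 : List (List ℤ) :=
  [[-4, 2, 0, 0, 2, 0, 0, 2, 0, -2, 0, -2, 2, -2, 2, 2, 0, 0, -2, 0, 2, 0, -2, 0],
   [-2, -4, -2, -2, 0, -2, 2, 0, 2, 0, -2, 0, 0, 0, 0, 0, 2, 2, 0, -2, 0, -2, 0, 2],
   [0, 2, -4, 0, 2, 0, 0, 2, 0, -2, 0, -2, -2, 2, 2, -2, 0, 0, 2, 0, -2, 0, 2, 0],
   [0, 2, 0, -4, -2, 0, 0, -2, 0, 2, 0, -2, -2, -2, 2, -2, 0, 0, -2, 0, -2, 0, -2, 0],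
   [-2, 0, -2, 2, -4, 2, -2, 0, 2, 0, -2, 0, 0, 0, 0, 0, -2, 2, 0, -2, 0, 2, 0, -2],
   [0, 2, 0, 0, -2, -4, 0, -2, 0, -2, 0, 2, 2, 2, 2, 2, 0, 0, -2, 0, -2, 0, 2, 0],
   [0, -2, 0, 0, 2, 0, -4, -2, 0, 2, 0, -2, 2, 2, 2, -2, 0, 0, -2, 0, 2, 0, 2, 0],
   [-2, 0, -2, 2, 0, 2, 2, -4, -2, 0, 2, 0, 0, 0, 0, 0, -2, -2, 0, -2, 0, -2, 0, 2],
   [0, -2, 0, 0, -2, 0, 0, 2, -4, 2, 0, -2, 2, 2, 2, 2, 0, 0, 2, 0, -2, 0, -2, 0],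
   [2, 0, 2, -2, 0, 2, -2, 0, -2, -4, -2, 0, 0, 0, 0, 0, -2, 2, 0, -2, 0, -2, 0, 2],
   [0, 2, 0, 0, 2, 0, 0, -2, 0, 2, -4, -2, 2, -2, -2, 2, 0, 0, 2, 0, -2, 0, 2, 0],
   [2, 0, 2, 2, 0, -2, 2, 0, 2, 0, 2, -4, 0, 0, 0, 0, -2, 2, 0, -2, 0, 2, 0, 2],
   [-2, 0, 2, 2, 0, -2, -2, 0, -2, 0, -2, 0, -4, 0, 0, 0, 2, -2, 0, -2, 0, 2, 0, 2],
   [2, 0, -2, 2, 0, -2, -2, 0, -2, 0, 2, 0, 0, -4, 0, 0, 2, 2, 0, -2, 0, -2, 0, -2],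
   [-2, 0, -2, -2, 0, -2, -2, 0, -2, 0, 2, 0, 0, 0, -4, 0, -2, 2, 0, 2, 0, 2, 0, 2],
   [-2, 0, 2, 2, 0, -2, 2, 0, -2, 0, -2, 0, 0, 0, 0, -4, -2, 2, 0, 2, 0, -2, 0, -2],
   [0, -2, 0, 0, 2, 0, 0, 2, 0, 2, 0, 2, -2, -2, 2, 2, -4, 0, -2, 0, -2, 0, 2, 0],
   [0, -2, 0, 0, -2, 0, 0, 2, 0, -2, 0, -2, 2, -2, -2, -2, 0, -4, -2, 0, -2, 0, 2, 0],
   [2, 0, -2, 2, 0, 2, 2, 0, -2, 0, -2, 0, 0, 0, 0, 0, 2, 2, -4, 2, 0, 2, 0, 2],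
   [0, 2, 0, 0, 2, 0, 0, 2, 0, 2, 0, 2, 2, 2, -2, -2, 0, 0, -2, -4, -2, 0, -2, 0],
   [-2, 0, 2, 2, 0, 2, -2, 0, 2, 0, 2, 0, 0, 0, 0, 0, 2, 2, 0, 2, -4, -2, 0, 2],
   [0, 2, 0, 0, -2, 0, 0, 2, 0, 2, 0, -2, -2, 2, -2, 2, 0, 0, -2, 0, 2, -4, 2, 0],
   [2, 0, -2, 2, 0, -2, -2, 0, 2, 0, -2, 0, 0, 0, 0, 0, -2, -2, 0, 2, 0, -2, -4, 2],
   [0, -2, 0, 0, 2, 0, 0, -2, 0, -2, 0, -2, -2, 2, -2, 2, 0, 0, -2, 0, -2, 0, -2, -4]]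

theorem xM1_ok : matB xM1 = true := by decide +kernel

/-- Generator 2. -/
def xM2 : List (List ℤ) :=
  [[-4, 0, 0, 0, 4, 0, 0, 0, 4, 0, 0, -4, 0, 0, 0, 0, 0, 0, 0, 0, 0, 0, 0, 0],
   [0, -4, 0, 0, 0, 0, 4, 0, 0, 0, 0, 0, 0, 0, 0, 0, 0, 0, 0, 0, 0, -4, 4, 0],
   [0, 0, -4, 0, 0, 0, 0, 0, 0, 0, 0, 0, 0, 0, 0, -4, -4, 0, 0, 0, -4, 0, 0, 0],
   [0, 0, 0, -4, 0, 0, 0, -4, 0, 0, -4, 0, 0, 0, 0, 0, 0, 0, -4, 0, 0, 0, 0, 0],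
   [-4, 0, 0, 0, -4, 0, 0, 0, 4, 0, 0, 4, 0, 0, 0, 0, 0, 0, 0, 0, 0, 0, 0, 0],
   [0, 0, 0, 0, 0, -4, 0, 0, 0, -4, 0, 0, 4, 0, 0, 0, 0, 0, 0, 4, 0, 0, 0, 0],
   [0, -4, 0, 0, 0, 0, -4, 0, 0, 0, 0, 0, 0, 0, 0, 0, 0, 0, 0, 0, 0, 4, 4, 0],
   [0, 0, 0, 4, 0, 0, 0, -4, 0, 0, 4, 0, 0, 0, 0, 0, 0, 0, -4, 0, 0, 0, 0, 0],
   [-4, 0, 0, 0, -4, 0, 0, 0, -4, 0, 0, -4, 0, 0, 0, 0, 0, 0, 0, 0, 0, 0, 0, 0],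
   [0, 0, 0, 0, 0, 4, 0, 0, 0, -4, 0, 0, 4, 0, 0, 0, 0, 0, 0, -4, 0, 0, 0, 0],
   [0, 0, 0, 4, 0, 0, 0, -4, 0, 0, -4, 0, 0, 0, 0, 0, 0, 0, 4, 0, 0, 0, 0, 0],
   [4, 0, 0, 0, -4, 0, 0, 0, 4, 0, 0, -4, 0, 0, 0, 0, 0, 0, 0, 0, 0, 0, 0, 0],
   [0, 0, 0, 0, 0, -4, 0, 0, 0, -4, 0, 0, -4, 0, 0, 0, 0, 0, 0, -4, 0, 0, 0, 0],
   [0, 0, 0, 0, 0, 0, 0, 0, 0, 0, 0, 0, 0, -4, 4, 0, 0, 4, 0, 0, 0, 0, 0, -4],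
   [0, 0, 0, 0, 0, 0, 0, 0, 0, 0, 0, 0, 0, -4, -4, 0, 0, 4, 0, 0, 0, 0, 0, 4],
   [0, 0, 4, 0, 0, 0, 0, 0, 0, 0, 0, 0, 0, 0, 0, -4, -4, 0, 0, 0, 4, 0, 0, 0],
   [0, 0, 4, 0, 0, 0, 0, 0, 0, 0, 0, 0, 0, 0, 0, 4, -4, 0, 0, 0, -4, 0, 0, 0],
   [0, 0, 0, 0, 0, 0, 0, 0, 0, 0, 0, 0, 0, -4, -4, 0, 0, -4, 0, 0, 0, 0, 0, -4],
   [0, 0, 0, 4, 0, 0, 0, 4, 0, 0, -4, 0, 0, 0, 0, 0, 0, 0, -4, 0, 0, 0, 0, 0],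
   [0, 0, 0, 0, 0, -4, 0, 0, 0, 4, 0, 0, 4, 0, 0, 0, 0, 0, 0, -4, 0, 0, 0, 0],
   [0, 0, 4, 0, 0, 0, 0, 0, 0, 0, 0, 0, 0, 0, 0, -4, 4, 0, 0, 0, -4, 0, 0, 0],
   [0, 4, 0, 0, 0, 0, -4, 0, 0, 0, 0, 0, 0, 0, 0, 0, 0, 0, 0, 0, 0, -4, 4, 0],
   [0, -4, 0, 0, 0, 0, -4, 0, 0, 0, 0, 0, 0, 0, 0, 0, 0, 0, 0, 0, 0, -4, -4, 0],
   [0, 0, 0, 0, 0, 0, 0, 0, 0, 0, 0, 0, 0, 4, -4, 0, 0, 4, 0, 0, 0, 0, 0, -4]]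

theorem xM2_ok : matB xM2 = true := by decide +kernel

/-- Generator 3. -/
def xM3 : List (List ℤ) :=
  [[-4, 2, 0, -2, 2, 0, 0, 0, 0, 0, -2, -2, 2, 0, -2, 2, -2, 0, 0, 2, 0, 2, 0, 2],
   [-2, -4, -2, 0, 0, -2, 2, 2, 2, 2, 0, 0, 0, -2, 0, 0, 0, -2, -2, 0, -2, 0, 2, 0],
   [0, 2, -4, -2, -2, 0, 0, 0, 0, 0, -2, -2, -2, 0, 2, -2, -2, 0, 0, -2, 0, 2, 0, -2],
   [2, 0, 2, -4, 0, -2, 2, -2, -2, 2, 0, 0, 0, -2, 0, 0, 0, -2, -2, 0, 2, 0, -2, 0],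
   [-2, 0, 2, 0, -4, 2, -2, -2, 2, 2, 0, 0, 0, -2, 0, 0, 0, 2, -2, 0, -2, 0, -2, 0],
   [0, 2, 0, 2, -2, -4, 0, 0, 0, 0, -2, 2, 2, 0, 2, -2, -2, 0, 0, 2, 0, -2, 0, 2],
   [0, -2, 0, -2, 2, 0, -4, 0, 0, 0, -2, 2, 2, 0, 2, -2, 2, 0, 0, 2, 0, 2, 0, -2],
   [0, -2, 0, 2, 2, 0, 0, -4, 0, 0, 2, -2, 2, 0, 2, -2, -2, 0, 0, -2, 0, 2, 0, 2],
   [0, -2, 0, 2, -2, 0, 0, 0, -4, 0, -2, -2, -2, 0, 2, 2, 2, 0, 0, 2, 0, 2, 0, 2],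
   [0, -2, 0, -2, -2, 0, 0, 0, 0, -4, -2, -2, 2, 0, -2, -2, 2, 0, 0, -2, 0, -2, 0, 2],
   [2, 0, 2, 0, 0, 2, 2, -2, 2, 2, -4, 0, 0, 2, 0, 0, 0, -2, 2, 0, -2, 0, 2, 0],
   [2, 0, 2, 0, 0, -2, -2, 2, 2, 2, 0, -4, 0, 2, 0, 0, 0, 2, -2, 0, 2, 0, 2, 0],
   [-2, 0, 2, 0, 0, -2, -2, -2, 2, -2, 0, 0, -4, -2, 0, 0, 0, -2, 2, 0, 2, 0, 2, 0],
   [0, 2, 0, 2, 2, 0, 0, 0, 0, 0, -2, -2, 2, -4, 2, 2, 2, 0, 0, -2, 0, -2, 0, -2],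
   [2, 0, -2, 0, 0, -2, -2, -2, -2, 2, 0, 0, 0, -2, -4, 0, 0, 2, 2, 0, -2, 0, 2, 0],
   [-2, 0, 2, 0, 0, 2, 2, 2, -2, 2, 0, 0, 0, -2, 0, -4, 0, 2, 2, 0, 2, 0, 2, 0],
   [2, 0, 2, 0, 0, 2, -2, 2, -2, -2, 0, 0, 0, -2, 0, 0, -4, -2, -2, 0, -2, 0, 2, 0],
   [0, 2, 0, 2, -2, 0, 0, 0, 0, 0, 2, -2, 2, 0, -2, -2, 2, -4, 0, 2, 0, 2, 0, -2],
   [0, 2, 0, 2, 2, 0, 0, 0, 0, 0, -2, 2, -2, 0, -2, -2, 2, 0, -4, -2, 0, 2, 0, 2],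
   [-2, 0, 2, 0, 0, -2, -2, 2, -2, 2, 0, 0, 0, 2, 0, 0, 0, -2, 2, -4, -2, 0, -2, 0],
   [0, 2, 0, -2, 2, 0, 0, 0, 0, 0, 2, -2, -2, 0, 2, -2, 2, 0, 0, 2, -4, -2, 0, 2],
   [-2, 0, -2, 0, 0, 2, -2, -2, -2, 2, 0, 0, 0, 2, 0, 0, 0, -2, -2, 0, 2, -4, 2, 0],
   [0, -2, 0, 2, 2, 0, 0, 0, 0, 0, -2, -2, -2, 0, -2, -2, -2, 0, 0, 2, 0, -2, -4, -2],
   [-2, 0, 2, 0, 0, -2, 2, -2, -2, -2, 0, 0, 0, 2, 0, 0, 0, 2, -2, 0, -2, 0, 2, -4]]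

theorem xM3_ok : matB xM3 = true := by decide +kernel

/-- Generator 4. -/
def xM4 : List (List ℤ) :=
  [[-4, 0, 2, -2, 2, 2, 2, 0, 0, -2, 0, -2, 0, 2, 0, 2, 0, 0, -2, 0, 0, 2, 0, -2],
   [0, -4, 2, -2, 2, -2, 2, 0, 0, 2, 0, 2, 0, -2, 0, 2, 0, 0, -2, 0, 0, -2, 0, 2],
   [-2, -2, -4, 0, 0, 0, 0, 2, 2, 0, -2, 0, -2, 0, 2, 0, -2, 2, 0, -2, -2, 0, 2, 0],
   [2, 2, 0, -4, 0, 0, 0, -2, -2, 0, -2, 0, -2, 0, 2, 0, -2, 2, 0, -2, 2, 0, -2, 0],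
   [-2, -2, 0, 0, -4, 0, 0, -2, 2, 0, -2, 0, 2, 0, -2, 0, 2, 2, 0, -2, 2, 0, -2, 0],
   [-2, 2, 0, 0, 0, -4, 0, -2, -2, 0, -2, 0, 2, 0, -2, 0, -2, 2, 0, 2, -2, 0, 2, 0],
   [-2, -2, 0, 0, 0, 0, -4, -2, -2, 0, -2, 0, -2, 0, 2, 0, 2, -2, 0, 2, 2, 0, 2, 0],
   [0, 0, -2, 2, 2, 2, 2, -4, 0, -2, 0, 2, 0, -2, 0, -2, 0, 0, -2, 0, 0, 2, 0, 2],
   [0, 0, -2, 2, -2, 2, 2, 0, -4, 2, 0, -2, 0, 2, 0, 2, 0, 0, -2, 0, 0, -2, 0, 2],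
   [2, -2, 0, 0, 0, 0, 0, 2, -2, -4, -2, 0, 2, 0, -2, 0, -2, -2, 0, -2, 2, 0, 2, 0],
   [0, 0, 2, 2, 2, 2, 2, 0, 0, 2, -4, -2, 0, -2, 0, -2, 0, 0, 2, 0, 0, -2, 0, -2],
   [2, -2, 0, 0, 0, 0, 0, -2, 2, 0, 2, -4, 2, 0, 2, 0, -2, 2, 0, 2, 2, 0, 2, 0],
   [0, 0, 2, 2, -2, -2, 2, 0, 0, -2, 0, -2, -4, -2, 0, 2, 0, 0, 2, 0, 0, 2, 0, 2],
   [-2, 2, 0, 0, 0, 0, 0, 2, -2, 0, 2, 0, 2, -4, 2, 0, 2, 2, 0, -2, 2, 0, 2, 0],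
   [0, 0, -2, -2, 2, 2, -2, 0, 0, 2, 0, -2, 0, -2, -4, 2, 0, 0, 2, 0, 0, 2, 0, 2],
   [-2, -2, 0, 0, 0, 0, 0, 2, -2, 0, 2, 0, -2, 0, -2, -4, -2, 2, 0, 2, 2, 0, -2, 0],
   [0, 0, 2, 2, -2, 2, -2, 0, 0, 2, 0, 2, 0, -2, 0, 2, -4, 0, -2, 0, 0, 2, 0, -2],
   [0, 0, -2, -2, -2, -2, 2, 0, 0, 2, 0, -2, 0, -2, 0, -2, 0, -4, -2, 0, 0, 2, 0, -2],
   [2, 2, 0, 0, 0, 0, 0, 2, 2, 0, -2, 0, -2, 0, -2, 0, 2, 2, -4, 2, 2, 0, 2, 0],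
   [0, 0, 2, 2, 2, -2, -2, 0, 0, 2, 0, -2, 0, 2, 0, -2, 0, 0, -2, -4, 0, 2, 0, 2],
   [0, 0, 2, -2, -2, 2, -2, 0, 0, -2, 0, -2, 0, -2, 0, -2, 0, 0, -2, 0, -4, -2, 0, 2],
   [-2, 2, 0, 0, 0, 0, 0, -2, 2, 0, 2, 0, -2, 0, -2, 0, -2, -2, 0, -2, 2, -4, 2, 0],
   [0, 0, -2, 2, 2, -2, -2, 0, 0, -2, 0, -2, 0, -2, 0, 2, 0, 0, -2, 0, 0, -2, -4, -2],
   [2, -2, 0, 0, 0, 0, 0, -2, -2, 0, 2, 0, -2, 0, -2, 0, 2, 2, 0, -2, -2, 0, 2, -4]]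

theorem xM4_ok : matB xM4 = true := by decide +kernel

/-- The generators. -/
def xG (i : ℕ) : LGen :=
  [matGen xM0 xM0_ok, matGen xM1 xM1_ok, matGen xM2 xM2_ok, matGen xM3 xM3_ok, matGen xM4 xM4_ok].getD i oneGen

theorem seventh : CoSection.eqB (fcomp vG (fcomp vG (fcomp vG (fcomp vG (fcomp vG (fcomp vG vG)))))).f
    idG.f = true := by decide +kernel

theorem v_ne : sameP vG idG = false := by decide +kernel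

theorem orderOf_vG : orderOf vG.g = 7 := by
  have : Fact (Nat.Prime 7) := ⟨by norm_num⟩
  refine orderOf_eq_prime ?_ fun h => ne_one v_ne (by rw [h, map_one])
  have e : vG.g * (vG.g * (vG.g * (vG.g * (vG.g * (vG.g * vG.g))))) = 1 := CoSection.g_eq seventh
  simpa only [pow_succ', pow_zero, mul_one] using e

theorem checks : (List.range 5).all (fun i =>
    sameP (fcomp vG (xG i)) (fcomp (xG i) vG) &&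
      sameP (fcomp (xG i) (fcomp (xG i) (xG i))) idG && !sameP (xG i) idG) = true := by
  decide +kernel

theorem pairs : (List.range 5).all (fun i => (List.range 5).all fun j => Nat.beq i j ||
    sameP (fcomp (fcomp (xG i) (xG j)) (fcomp (xG i) (xG j))) idG) = true := by
  decide +kernel

theorem gens_facts : ∀ i, i < 5 → toCo vG.g * toCo (xG i).g = toCo (xG i).g * toCo vG.g ∧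
    toCo (xG i).g ^ 3 = 1 ∧ toCo (xG i).g ≠ 1 ∧
    ∀ j, j < 5 → i ≠ j → (toCo (xG i).g * toCo (xG j).g) ^ 2 = 1 := by
  intro i hi
  have h := List.all_eq_true.1 checks i (List.mem_range.2 hi)
  simp only [Bool.and_eq_true, Bool.not_eq_true'] at h
  obtain ⟨⟨hc, h3⟩, hne⟩ := h
  refine ⟨?_, ?_, ne_one hne, fun j hj hij => ?_⟩
  · rw [← toCo_comp, ← toCo_comp, toCo_eq_of_sameP hc]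
  · rw [pow_three, ← toCo_comp]
    exact mul_one_of h3
  · have h2 := List.all_eq_true.1 (List.all_eq_true.1 pairs i (List.mem_range.2 hi)) j (List.mem_range.2 hj)
    simp only [Bool.or_eq_true, Nat.beq_eq, hij, false_or] at h2
    rw [pow_two, ← toCo_comp]
    exact mul_one_of h2

/-- From the bound on the centraliser upstairs, the subgroup with centraliser `7 × A7`. -/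
theorem exists_V (hC : Nat.card ↥(Subgroup.centralizer ({vG.g} : Set ↥Co0)) ≤ 35280) :
    ∃ V : Subgroup Spor.Co1, Nat.card V = 7 ∧
      Nonempty (↥(Subgroup.centralizer (V : Set Spor.Co1)) ≃*
        Multiplicative (ZMod 7) × alternatingGroup (Fin 7)) :=
  exists_seven orderOf_vG hC (fun i => toCo (xG i).g) (fun i hi => (gens_facts i hi).2.1)
    (fun i j hi hj hij => (gens_facts i hi).2.2.2 j hj hij)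
    ⟨0, by norm_num, (gens_facts 0 (by norm_num)).2.2.1⟩ fun i hi => (gens_facts i hi).1

end Cfsg.Agent.CoOneUniq.Local.Seven
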