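import Cfsg.Agent.Leech.Orbits
import Cfsg.Agent.Leech.OrbitCert
import Cfsg.Agent.CoOneUniq.Local.Tables

/-!
# The three shapes of the shortest vectors
-/

set_option autoImplicit false

open Cfsg Finset

namespace Cfsg.Agent.CoOneUniq.Local

open Cfsg.Agent.Leech (idx ptOf bitWord allMasks)

/-- Sign patterns with an even number of negative signs. -/
def sigs : ℕ → Bool → List (List Bool)
  | 0, par => if par then [] else [[]]
  | n + 1, par => (sigs n par).map (false :: ·) ++ (sigs n !par).map (true :: ·)

/-! ### the three shapes -/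

theorem sum_pts (f : GolayPt → ℤ) : ∑ p, f p = ∑ i ∈ range 24, f (ptOf i) := by
  rw [Leech.univ_eq_range]
  exact sum_image fun a ha b hb e => by
    rw [← Leech.idx_ptOf a (mem_range.1 ha), ← Leech.idx_ptOf b (mem_range.1 hb), e]

theorem mem_codeL {c : GolayPt → ZMod 2} (hc : c ∈ golayCode) :
    ∃ m ∈ codeL, ∀ i < 24, (m.testBit i = true ↔ c (ptOf i) = 1) := by
  obtain ⟨m, hm, rfl⟩ := Leech.exists_mask hc
  refine ⟨m, codeL_eq ▸ hm, fun i hi => ?_⟩
  simp only [bitWord, Leech.idx_ptOf i hi]
  cases m.testBit i <;> simp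

theorem mem_octL {c : GolayPt → ZMod 2} (hc : c ∈ golayCode) (h8 : hammingNorm c = 8) :
    ∃ l ∈ octL, l.Nodup ∧ l.length = 8 ∧ ∀ i, i ∈ l ↔ i < 24 ∧ c (ptOf i) = 1 := by
  obtain ⟨m, hm, rfl⟩ := Leech.exists_mask hc
  refine ⟨(List.range 24).filter fun i => m.testBit i, ?_, List.nodup_range.filter _, ?_,
    fun i => ?_⟩
  · rw [← octL_eq, List.mem_filter]
    refine ⟨List.mem_map.2 ⟨m, codeL_eq ▸ hm, rfl⟩, ?_⟩
    rw [← Leech.hammingNorm_bitWord, h8]; rfl
  · rw [← Leech.hammingNorm_bitWord, h8]
  · simp only [List.mem_filter, List.mem_range, bitWord]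
    refine ⟨fun ⟨h1, h2⟩ => ⟨h1, by simp [Leech.idx_ptOf i h1, h2]⟩, fun ⟨h1, h2⟩ => ⟨h1, ?_⟩⟩
    rw [Leech.idx_ptOf i h1] at h2
    cases h : m.testBit i <;> simp [h] at h2 ⊢

theorem parity_fold {ι : Type*} (f : ι → ℤ) : ∀ l : List ι, (∀ i ∈ l, f i = 1 ∨ f i = -1) →
    ((l.length : ℤ) - (l.map f).sum) % 4 =
      if (l.map fun i => decide (f i < 0)).foldr (fun a b => a != b) false then 2 else 0
  | [], _ => rfl
  | a :: t, h => by
    have ih := parity_fold f t fun i hi => h i (List.mem_cons_of_mem _ hi)
    simp only [List.length_cons, List.map_cons, List.sum_cons, List.foldr_cons]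
    revert ih
    rcases h a List.mem_cons_self with e | e <;> rw [e] <;>
      cases (t.map fun i => decide (f i < 0)).foldr (fun a b => a != b) false <;> simp <;> omega

theorem mem_sigs : ∀ (s : List Bool) (par : Bool),
    s.foldr (fun a b => a != b) par = false → s ∈ sigs s.length par
  | [], par, h => by simp only [List.foldr_nil] at h; simp [h, sigs]
  | b :: t, par, h => by
    have hflip : ∀ (t : List Bool) (par : Bool), t.foldr (fun a b => a != b) (!par) =
        !(t.foldr (fun a b => a != b) par) := by
      intro t par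
      induction t with
      | nil => rfl
      | cons a t ih => simp only [List.foldr_cons, ih]; cases a <;> simp
    simp only [List.length_cons, sigs, List.mem_append, List.mem_map]
    cases b with
    | false => exact Or.inl ⟨t, mem_sigs t par (by simpa using h), rfl⟩
    | true => exact Or.inr ⟨t, mem_sigs t _ (by rw [hflip]; simpa using h), rfl⟩

/-- The shapes of a vector of squared length 32, as functions of the position. -/
def Shape (g : ℕ → ℤ) : Prop :=
  (∃ i j, j < i ∧ i < 24 ∧ (g i = 4 ∨ g i = -4) ∧ (g j = 4 ∨ g j = -4) ∧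
    ∀ k < 24, k ≠ i → k ≠ j → g k = 0) ∨
  (∃ l ∈ octL, l.Nodup ∧ l.length = 8 ∧ (∀ i ∈ l, i < 24 ∧ (g i = 2 ∨ g i = -2)) ∧
    (l.map fun i => decide (g i < 0)).foldr (fun a b => a != b) false = false ∧
    ∀ k < 24, k ∉ l → g k = 0) ∨
  (∃ m ∈ codeL, ∃ i < 24, g i = (if m.testBit i then 3 else -3) ∧
    ∀ k < 24, k ≠ i → g k = (if m.testBit k then -1 else 1))

theorem shape {x : GolayPt → ℤ} (hx : x ∈ leechLattice) (hn : sqNorm x = 32) :
    Shape fun i => x (ptOf i) := by
  classical
  by_cases hodd : (2 : ℤ) ∣ x none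
  · obtain ⟨y, hy, hc, h4⟩ := Leech.even_form hx hodd
    have h8 : ∑ p, y p ^ 2 = 8 := by
      have : sqNorm x = 4 * ∑ i, y i ^ 2 := by
        rw [sqNorm, Finset.mul_sum]
        exact Finset.sum_congr rfl fun i _ => by rw [hy i]; ring
      omega
    by_cases h0 : Leech.red2 y = 0
    · left
      have hev : ∀ i, (2 : ℤ) ∣ y i := fun i =>
        (ZMod.intCast_zmod_eq_zero_iff_dvd _ 2).1 (congrFun h0 i)
      choose w hw using hev
      have h2 : ∑ i, w i ^ 2 = 2 := by
        have : ∑ i, y i ^ 2 = 4 * ∑ i, w i ^ 2 := by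
          rw [Finset.mul_sum]; exact Finset.sum_congr rfl fun i _ => by rw [hw i]; ring
        omega
      have hle : ∀ i, w i ^ 2 ≤ 1 := fun i => by
        by_contra hcon
        have h1 := Finset.single_le_sum (f := fun i => w i ^ 2) (fun b _ => sq_nonneg _)
          (Finset.mem_univ i)
        simp only [h2] at h1
        have : -1 ≤ w i ∧ w i ≤ 1 := by constructor <;> nlinarith
        rcases this with ⟨a, b⟩
        interval_cases (w i) <;> simp at hcon
      have hsq : ∀ i, w i ^ 2 = if w i = 0 then 0 else 1 := fun i => by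
        have h1 := hle i
        have : -1 ≤ w i ∧ w i ≤ 1 := by constructor <;> nlinarith
        rcases this with ⟨a, b⟩
        interval_cases (w i) <;> simp
      have hcard : (Finset.univ.filter fun i => w i ≠ 0).card = 2 := by
        have e : ∑ i, w i ^ 2 = ((Finset.univ.filter fun i => w i ≠ 0).card : ℤ) := by
          simp only [hsq, Finset.sum_ite, Finset.sum_const_zero, zero_add, Finset.sum_const,
            nsmul_eq_mul, mul_one, ne_eq]
        omega
      obtain ⟨a, b, hab, hset⟩ := Finset.card_eq_two.1 hcard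
      have hval : ∀ p, w p ≠ 0 → x p = 4 ∨ x p = -4 := fun p hp => by
        have h1 := hle p
        have : -1 ≤ w p ∧ w p ≤ 1 := by constructor <;> nlinarith
        have := hy p; have := hw p
        omega
      have hmem : ∀ p, w p ≠ 0 ↔ p = a ∨ p = b := fun p => by
        have := congrArg (fun s => p ∈ s) hset
        simpa using this
      have hne : idx a ≠ idx b := fun e => hab (by rw [← Leech.ptOf_idx a, e, Leech.ptOf_idx])
      have hz : ∀ k < 24, k ≠ idx a → k ≠ idx b → x (ptOf k) = 0 := fun k hk ha hb => by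
        have : w (ptOf k) = 0 := by
          by_contra h
          rcases (hmem _).1 h with e | e
          · exact ha (by rw [← e, Leech.idx_ptOf k hk])
          · exact hb (by rw [← e, Leech.idx_ptOf k hk])
        rw [hy, hw, this]; rfl
      rcases lt_or_gt_of_ne hne with h | h
      · exact ⟨idx b, idx a, h, Leech.idx_lt b, by simpa [Leech.ptOf_idx] using hval b ((hmem b).2 (Or.inr rfl)),
          by simpa [Leech.ptOf_idx] using hval a ((hmem a).2 (Or.inl rfl)), fun k hk h1 h2 => hz k hk h2 h1⟩
      · exact ⟨idx a, idx b, h, Leech.idx_lt a, by simpa [Leech.ptOf_idx] using hval a ((hmem a).2 (Or.inl rfl)),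
          by simpa [Leech.ptOf_idx] using hval b ((hmem b).2 (Or.inr rfl)), hz⟩
    · right; left
      have h1 := Leech.eight_le_weight hc h0
      have h2 := (Leech.card_le_sum_odd y).1
      set S := support₂ (Leech.red2 y) with hS
      have h3 := Finset.sum_le_sum_of_subset_of_nonneg (f := fun i => y i ^ 2)
        (Finset.subset_univ S) (fun i _ _ => sq_nonneg _)
      simp only [h8] at h3
      have hn8 : hammingNorm (Leech.red2 y) = 8 := by
        rw [Leech.hammingNorm_eq_card] at h1 ⊢
        rw [← hS] at h1 ⊢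
        omega
      have hSc : S.card = 8 := by rw [hS, ← Leech.hammingNorm_eq_card, hn8]
      have hoff : ∀ p, p ∉ S → y p = 0 := fun p hp => by
        by_contra h
        have h5 := Finset.sum_le_sum_of_subset_of_nonneg (f := fun i => y i ^ 2)
          (Finset.subset_univ (insert p S)) (fun i _ _ => sq_nonneg _)
        rw [Finset.sum_insert hp, h8] at h5
        have : 1 ≤ y p ^ 2 := by nlinarith [Int.one_le_abs h, sq_abs (y p)]
        rw [hSc] at h2
        push_cast at h2
        omega
      have hon : ∀ p ∈ S, y p = 1 ∨ y p = -1 := fun p hp => by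
        have ho := (Leech.odd_sq_bound ((Leech.support₂_red2' y p).1 hp)).1
        have h5 := Finset.add_sum_erase S (fun i => y i ^ 2) hp
        have h6 : ((S.erase p).card : ℤ) ≤ ∑ i ∈ S.erase p, y i ^ 2 := by
          have : ∑ i ∈ S.erase p, (1 : ℤ) ≤ ∑ i ∈ S.erase p, y i ^ 2 := Finset.sum_le_sum fun i hi =>
            (Leech.odd_sq_bound ((Leech.support₂_red2' y i).1 (Finset.mem_of_mem_erase hi))).1
          simpa using this
        rw [Finset.card_erase_of_mem hp, hSc] at h6
        have : y p ^ 2 = 1 := by push_cast at h6; omega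
        exact sq_eq_one_iff.1 this
      obtain ⟨l, hl, hnd, hlen, hlm⟩ := mem_octL hc hn8
      have hiff : ∀ p, Leech.red2 y p = 1 ↔ p ∈ S := fun p => by
        rw [hS, Leech.mem_support₂]
      refine ⟨l, hl, hnd, hlen, fun i hi => ⟨((hlm i).1 hi).1, ?_⟩, ?_, fun k hk hkl => ?_⟩
      · rcases hon _ ((hiff _).1 ((hlm i).1 hi).2) with e | e <;> simp [hy (ptOf i), e]
      · have hpm : ∀ i ∈ l, y (ptOf i) = 1 ∨ y (ptOf i) = -1 := fun i hi =>
          hon _ ((hiff _).1 ((hlm i).1 hi).2)
        have h := parity_fold (fun i => y (ptOf i)) l hpm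
        have hsum : (l.map fun i => y (ptOf i)).sum = ∑ p, y p := by
          rw [← List.sum_toFinset _ hnd, sum_pts]
          refine Finset.sum_subset (fun i hi => Finset.mem_range.2 ((hlm i).1 (List.mem_toFinset.1 hi)).1) ?_
          intro i hi hil
          refine hoff _ fun hp => hil ?_
          rw [List.mem_toFinset, hlm]
          exact ⟨Finset.mem_range.1 hi, (hiff _).2 hp⟩
        have e : (l.map fun i => decide (y (ptOf i) < 0)) = l.map fun i => decide (x (ptOf i) < 0) :=
          List.map_congr_left fun i _ => decide_eq_decide.2 (by have := hy (ptOf i); omega)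
        rw [e] at h
        by_contra hcon
        rw [Bool.not_eq_false] at hcon
        rw [hcon, hsum, hlen] at h
        simp only [if_true] at h
        push_cast at h
        omega
      · simp only [hy, hoff _ fun hp => hkl ((hlm k).2 ⟨hk, (hiff _).2 hp⟩), mul_zero]
  · right; right
    obtain ⟨c, hc, hmod⟩ := Leech.odd_normal hx hodd
    set y := Leech.negOn c x with hy
    have hn' : ∑ p, y p ^ 2 = 32 := (Leech.sqNorm_negOn c x).trans hn
    have hge : ∀ p, 1 ≤ y p ^ 2 := fun p => by
      have : y p ≠ 0 := fun e => by have := hmod p; rw [e] at this; omega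
      nlinarith [Int.one_le_abs this, sq_abs (y p)]
    obtain ⟨j, hj⟩ : ∃ j, y j ≠ 1 := by
      by_contra hcon
      push Not at hcon
      simp only [hcon, one_pow, Leech.sum_golayPt_const] at hn'
      norm_num at hn'
    have hbound : ∀ p, -5 ≤ y p ∧ y p ≤ 5 := fun p => by
      have h1 := Finset.single_le_sum (f := fun i => y i ^ 2) (fun b _ => sq_nonneg _)
        (Finset.mem_univ p)
      simp only [hn'] at h1
      constructor <;> nlinarith
    have hbig : ∀ p, y p ≠ 1 → 9 ≤ y p ^ 2 := fun p hp => by
      have := hmod p; have := hbound p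
      have : y p = -3 ∨ y p = 5 := by omega
      rcases this with e | e <;> rw [e] <;> norm_num
    have hone : ∀ p, p ≠ j → y p = 1 := fun p hp => by
      by_contra h
      have h5 := Finset.add_sum_erase _ (fun i => y i ^ 2) (Finset.mem_univ j)
      have h6 := Finset.add_sum_erase _ (fun i => y i ^ 2)
        (Finset.mem_erase.2 ⟨hp, Finset.mem_univ p⟩)
      have h7 : (((Finset.univ.erase j).erase p).card : ℤ) ≤
          ∑ i ∈ (Finset.univ.erase j).erase p, y i ^ 2 := by
        have := Finset.sum_le_sum (s := (Finset.univ.erase j).erase p) fun i _ => hge i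
        simpa using this
      rw [Finset.card_erase_of_mem (Finset.mem_erase.2 ⟨hp, Finset.mem_univ p⟩),
        Finset.card_erase_of_mem (Finset.mem_univ j), Finset.card_univ, Leech.card_golayPt] at h7
      have := hbig j hj; have := hbig p h
      push_cast at h7
      omega
    have hj3 : y j = -3 := by
      have h5 := Finset.add_sum_erase _ (fun i => y i ^ 2) (Finset.mem_univ j)
      have h6 : ∑ i ∈ Finset.univ.erase j, y i ^ 2 = 23 := by
        rw [Finset.sum_congr rfl fun i hi => by rw [hone i (Finset.ne_of_mem_erase hi)]]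
        simp [Finset.card_erase_of_mem, Leech.card_golayPt]
      have := hmod j; have := hbound j
      have : y j = -3 ∨ y j = 5 := by omega
      rcases this with e | e
      · exact e
      · rw [e] at h5; omega
    obtain ⟨m, hm, hbit⟩ := mem_codeL hc
    have hxy : ∀ i < 24, x (ptOf i) = if m.testBit i then -y (ptOf i) else y (ptOf i) := fun i hi => by
      have := hbit i hi
      cases hb : m.testBit i
      · rw [hb] at this
        have hc0 : c (ptOf i) = 0 :=
          (Leech.zmod2_cases _).resolve_right fun e => by simpa using this.2 e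
        simp [hy, Leech.negOn, hc0]
      · rw [hb] at this
        simp [hy, Leech.negOn, this.1 rfl]
    refine ⟨m, hm, idx j, Leech.idx_lt j, ?_, fun k hk hkj => ?_⟩
    · show x (ptOf (idx j)) = _
      rw [hxy _ (Leech.idx_lt j), Leech.ptOf_idx, hj3]
      split_ifs <;> rfl
    · show x (ptOf k) = _
      rw [hxy k hk, hone (ptOf k) fun e => hkj (by rw [← e, Leech.idx_ptOf k hk])]

end Cfsg.Agent.CoOneUniq.Local
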